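import Mathlib.FieldTheory.Galois.Basic
import Mathlib.FieldTheory.PrimitiveElement
import Mathlib.FieldTheory.SplittingField.Construction
import Mathlib.RingTheory.Henselian
import Mathlib.RingTheory.LocalRing.ResidueField.Basic
import Mathlib.Algebra.CharP.Algebra
import Mathlib.Algebra.CharP.Lemmas
import Mathlib.FieldTheory.Finite.Basic
import Mathlib.GroupTheory.OrderOfElement
import Mathlib.Algebra.Field.ZMod

/-!
# Roots of Artin–Schreier polynomials
-/

set_option autoImplicit false

universe u v

open Polynomial

namespace Groth.Agent.Lib.WildAS.Root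

variable {p : ℕ} [hp : Fact p.Prime]

/-- The roots of `X ^ p - a X - b` in a domain are known once `p` distinct ones are known. -/
theorem mem_of_root {R : Type u} [CommRing R] [IsDomain R] {ι : Type*} [Fintype ι]
    (r : ι → R) (hr : Function.Injective r) (f : R[X]) (hf : f ≠ 0)
    (hdeg : f.natDegree ≤ Fintype.card ι) (hroot : ∀ i, f.eval (r i) = 0) {x : R}
    (hx : f.eval x = 0) : ∃ i, x = r i := by
  classical
  have hsub : Finset.univ.image r ⊆ f.roots.toFinset := fun y hy => by
    obtain ⟨i, -, rfl⟩ := Finset.mem_image.mp hy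
    rw [Multiset.mem_toFinset, mem_roots hf]
    exact hroot i
  have heq : Finset.univ.image r = f.roots.toFinset := by
    refine Finset.eq_of_subset_of_card_le hsub ?_
    rw [Finset.card_image_of_injective _ hr, Finset.card_univ]
    exact (Multiset.toFinset_card_le _).trans ((card_roots' f).trans hdeg)
  have : x ∈ f.roots.toFinset := by rw [Multiset.mem_toFinset, mem_roots hf]; exact hx
  rw [← heq] at this
  obtain ⟨i, -, hi⟩ := Finset.mem_image.mp this
  exact ⟨i, hi.symm⟩

/-- An element fixed by `x ↦ x ^ p` lies in the prime field. -/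
theorem exists_cast_of_pow_eq {L : Type u} [Field L] [CharP L p] {x : L}
    (hx : x ^ p = x) : ∃ i : ZMod p, x = ZMod.castHom (dvd_refl p) L i := by
  refine mem_of_root (ZMod.castHom (dvd_refl p) L) (ZMod.castHom (dvd_refl p) L).injective
    (X ^ p - X) (FiniteField.X_pow_card_sub_X_ne_zero L hp.out.one_lt)
    (by rw [FiniteField.X_pow_card_sub_X_natDegree_eq L hp.out.one_lt, ZMod.card]) (fun i => ?_) ?_
  · rw [eval_sub, eval_pow, eval_X, ← map_pow, ZMod.pow_card, sub_self]
  · rw [eval_sub, eval_pow, eval_X, hx, sub_self]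

/-- Without Galois extensions of degree `p`, Artin–Schreier equations are solvable. -/
theorem exists_root_field {k : Type v} [Field k] [CharP k p]
    (hkp : ∀ (L : Type v) [Field L] [Algebra k L], IsGalois k L → Module.finrank k L ≠ p) (β : k) :
    ∃ z : k, z ^ p - z = β := by
  classical
  by_contra hno
  let f : k[X] := X ^ p - X - C β
  have hdeg : f.natDegree = p := by
    rw [natDegree_sub_C, FiniteField.X_pow_card_sub_X_natDegree_eq k hp.out.one_lt]
  have hne : f ≠ 0 := fun h => hp.out.ne_zero (by rw [← hdeg, h, natDegree_zero])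
  let L := f.SplittingField
  haveI : CharP L p := charP_of_injective_algebraMap (algebraMap k L).injective p
  have hsep : f.Separable := by
    refine ⟨0, -1, ?_⟩
    simp [f, derivative_sub, derivative_X_pow]
  haveI : IsGalois k L := IsGalois.of_separable_splitting_field hsep
  have hdeg' : (f.map (algebraMap k L)).degree ≠ 0 := by
    rw [degree_map, degree_eq_natDegree hne, hdeg]
    exact_mod_cast hp.out.ne_zero
  obtain ⟨α, hα⟩ := (SplittingField.splits f).exists_eval_eq_zero hdeg'
  have hα' : α ^ p - α - algebraMap k L β = 0 := by simpa [f] using hα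
  have hα'' : α ^ p - α = algebraMap k L β := sub_eq_zero.mp hα'
  have hstep : ∀ g : L ≃ₐ[k] L, ∃ i : ZMod p, g α - α = ZMod.castHom (dvd_refl p) L i := fun g => by
    refine exists_cast_of_pow_eq ?_
    have h1 : g α ^ p - g α = α ^ p - α := by rw [← map_pow, ← map_sub, hα'', g.commutes]
    rw [sub_pow_char]
    linear_combination h1
  choose Φ hΦ using hstep
  have hfix : ∀ (g : L ≃ₐ[k] L) (i : ZMod p),
      g (ZMod.castHom (dvd_refl p) L i) = ZMod.castHom (dvd_refl p) L i := fun g i => by
    have : g.toRingHom.comp (ZMod.castHom (dvd_refl p) L) = ZMod.castHom (dvd_refl p) L :=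
      Subsingleton.elim _ _
    exact RingHom.congr_fun this i
  let Ψ : (L ≃ₐ[k] L) →* Multiplicative (ZMod p) :=
    MonoidHom.mk' (fun g => Multiplicative.ofAdd (Φ g)) fun g h => by
      rw [← ofAdd_add]
      congr 1
      refine (ZMod.castHom (dvd_refl p) L).injective ?_
      have e : g (h α) = g α + ZMod.castHom (dvd_refl p) L (Φ h) := by
        have e1 : h α = α + ZMod.castHom (dvd_refl p) L (Φ h) :=
          eq_add_of_sub_eq' (hΦ h)
        conv_lhs => rw [e1]
        rw [map_add, hfix]
      rw [map_add, ← hΦ (g * h), AlgEquiv.mul_apply, e, ← hΦ g]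
      ring
  have hgen : Algebra.adjoin k ({α} : Set L) = ⊤ := by
    rw [eq_top_iff, ← SplittingField.adjoin_rootSet f, Algebra.adjoin_le_iff]
    intro x hx
    rw [mem_rootSet] at hx
    obtain ⟨i, hi⟩ := exists_cast_of_pow_eq (p := p) (x := x - α) (by
      have h1 : x ^ p - x - algebraMap k L β = 0 := by simpa [f] using hx.2
      rw [sub_pow_char]
      linear_combination h1 - hα')
    rw [show x = α + ZMod.castHom (dvd_refl p) L i by rw [← hi]; ring]
    refine add_mem (Algebra.subset_adjoin rfl) ?_
    have h2 : (algebraMap k L).comp (ZMod.castHom (dvd_refl p) k) = ZMod.castHom (dvd_refl p) L :=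
      Subsingleton.elim _ _
    rw [← h2]
    exact Subalgebra.algebraMap_mem _ _
  have hinj : Function.Injective Ψ := fun g h hgh => by
    have hgh' : Φ g = Φ h := hgh
    have h1 : g α = h α := by
      have h2 := hΦ g; have h3 := hΦ h
      rw [hgh'] at h2
      linear_combination h2 - h3
    refine AlgEquiv.coe_toAlgHom_injective (AlgHom.ext_of_adjoin_eq_top hgen fun x hx => ?_)
    rw [Set.mem_singleton_iff] at hx
    subst hx
    exact h1
  have hdvd := Subgroup.card_dvd_of_injective Ψ hinj
  rw [Nat.card_eq_fintype_card (α := Multiplicative (ZMod p)), Fintype.card_multiplicative, ZMod.card,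
    IsGalois.card_aut_eq_finrank] at hdvd
  rcases (Nat.dvd_prime hp.out).mp hdvd with h1 | h1
  · obtain ⟨z, hz⟩ : ∃ z : k, algebraMap k L z = α := by
      have hb : (⊥ : Subalgebra k L) = ⊤ := Subalgebra.bot_eq_top_of_finrank_eq_one h1
      exact Algebra.mem_bot.mp (hb ▸ Algebra.mem_top)
    refine hno ⟨z, (algebraMap k L).injective ?_⟩
    rw [map_sub, map_pow, hz, hα'']
  · exact hkp L inferInstance h1

/-- Artin–Schreier equations are solvable in a complete local ring with such a residue field. -/
theorem exists_root {A : Type u} [CommRing A] [IsLocalRing A] [CharP A p]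
    [IsAdicComplete (IsLocalRing.maximalIdeal A) A] {k : Type v} [Field k] [Algebra k A]
    (hk : Function.Surjective (IsLocalRing.residue A ∘ algebraMap k A))
    (hkp : ∀ (L : Type v) [Field L] [Algebra k L], IsGalois k L → Module.finrank k L ≠ p) (b : A) :
    ∃ z : A, z ^ p - z = b := by
  haveI : CharP k p := (RingHom.charP_iff (algebraMap k A) (algebraMap k A).injective p).mpr ‹_›
  obtain ⟨β, hβ⟩ := hk (IsLocalRing.residue A b)
  obtain ⟨z0, hz0⟩ := exists_root_field hkp β
  obtain ⟨z, hz, -⟩ := HenselianRing.is_henselian (I := IsLocalRing.maximalIdeal A) (X ^ p - X - C b)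
    (by rw [sub_sub]; exact monic_X_pow_sub (by
      refine lt_of_le_of_lt (degree_add_le _ _) (max_lt ?_ ?_)
      · exact lt_of_le_of_lt degree_X_le (by exact_mod_cast hp.out.one_lt)
      · exact lt_of_le_of_lt degree_C_le (by exact_mod_cast hp.out.pos)))
    (algebraMap k A z0) (by
      rw [← Ideal.Quotient.eq_zero_iff_mem]
      change IsLocalRing.residue A _ = 0
      simp only [eval_sub, eval_pow, eval_X, eval_C, map_sub, map_pow]
      rw [← map_pow (IsLocalRing.residue A), ← map_pow (algebraMap k A), ← map_sub (IsLocalRing.residue A),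
        ← map_sub (algebraMap k A), hz0, ← hβ]
      exact sub_self _)
    (by
      simp [derivative_sub, derivative_X_pow])
  exact ⟨z, sub_eq_zero.mp (by simpa [IsRoot] using hz)⟩

end Groth.Agent.Lib.WildAS.Root
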