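import Groth.Agent.Lib.WildAS.Purity
import Groth.Agent.Lib.WildAS.Root
import Mathlib.RingTheory.Invariant.Basic
import Mathlib.LinearAlgebra.LinearIndependent.Defs
import Mathlib.GroupTheory.SpecificGroups.Cyclic
import Mathlib.RingTheory.Ideal.Height
import Mathlib.RingTheory.Ideal.GoingUp
import Mathlib.FieldTheory.Fixed
import Mathlib.Algebra.Polynomial.GroupRingAction

/-!
# Automorphisms of invariant rings of wild cyclic actions

`A` a complete regular local ring of characteristic `p`, `G` of order `p` acting with trivial inertia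
outside the closed point. Every automorphism of the ring of invariants extends to `A`.
-/

set_option autoImplicit false

universe u v w

open Polynomial

namespace Groth.Agent.Lib.WildAS.Extend

variable {p : ℕ} [hp : Fact p.Prime] {A : Type u} [CommRing A] [CharP A p]
  {k : Type v} [Field k] [Algebra k A]
  {G : Type w} [Group G] [Finite G] [MulSemiringAction G A] [SMulCommClass G k A]

local notation "𝔹" => FixedPoints.subalgebra k A G

instance isInvariant : Algebra.IsInvariant 𝔹 A G := ⟨fun b hb => ⟨⟨b, hb⟩, rfl⟩⟩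

instance smulCommClass : SMulCommClass G 𝔹 A := ⟨fun g b x => by
  change g • ((b : A) * x) = (b : A) * g • x
  rw [smul_mul', show g • (b : A) = b from b.2 g]⟩

/-- `G` as `ZMod p`, as elements of `A`. -/
noncomputable def idx (hcard : Nat.card G = p) : G ≃* Multiplicative (ZMod p) :=
  haveI : IsCyclic G := isCyclic_of_prime_card hcard
  ((MulEquiv.refl _).trans (zmodCyclicMulEquiv (G := G) inferInstance).symm).trans
    (by rw [hcard])

variable (A) in
/-- The integer attached to a group element, as an element of `A`. -/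
noncomputable def cst (hcard : Nat.card G = p) (g : G) : A :=
  ZMod.castHom (dvd_refl p) A (idx hcard g).toAdd

variable (hcard : Nat.card G = p)

lemma cst_mul (g h : G) : cst A hcard (g * h) = cst A hcard g + cst A hcard h := by
  rw [cst, map_mul, toAdd_mul, map_add]; rfl

lemma cst_injective [Nontrivial A] : Function.Injective (cst A hcard) := fun g h e =>
  (idx hcard).injective (Multiplicative.toAdd.injective ((ZMod.castHom (dvd_refl p) A).injective e))

lemma smul_cst (g h : G) : g • cst A hcard h = cst A hcard h := by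
  have : (MulSemiringAction.toRingHom G A g).comp (ZMod.castHom (dvd_refl p) A) =
      ZMod.castHom (dvd_refl p) A := Subsingleton.elim _ _
  exact RingHom.congr_fun this _

lemma cst_pow (h : G) : cst A hcard h ^ p = cst A hcard h := by
  rw [cst, ← map_pow, ZMod.pow_card]

/-- the trace -/
noncomputable def tr [Fintype G] (t : A) : A := ∑ g : G, g • t

/-- a twisted trace -/
noncomputable def gen [Fintype G] (t : A) : A := -∑ g : G, cst A hcard g * g • t

variable [Fintype G]

lemma tr_mem (t : A) : tr (G := G) t ∈ 𝔹 := fun h => by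
  rw [tr, Finset.smul_sum]
  exact Fintype.sum_equiv (Equiv.mulLeft h) _ _ fun g => (smul_smul h g t).trans rfl

lemma smul_gen (t : A) (h : G) :
    h • gen hcard t = gen hcard t + cst A hcard h * tr (G := G) t := by
  rw [gen, smul_neg, Finset.smul_sum, tr, Finset.mul_sum]
  have : ∀ g, h • (cst A hcard g * g • t) =
      cst A hcard (h * g) * (h * g) • t - cst A hcard h * (h * g) • t := fun g => by
    rw [smul_mul', smul_cst, smul_smul, cst_mul]; ring
  simp only [this, Finset.sum_sub_distrib]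
  rw [Fintype.sum_equiv (Equiv.mulLeft h) (fun g => cst A hcard (h * g) * (h * g) • t)
      (fun g => cst A hcard g * g • t) fun g => rfl,
    Fintype.sum_equiv (Equiv.mulLeft h) (fun g => cst A hcard h * (h * g) • t)
      (fun g => cst A hcard h * g • t) fun g => rfl]
  ring

/-- the value `y ^ p - T ^ (p - 1) y` -/
def asNum (p : ℕ) (y T : A) : A := y ^ p - T ^ (p - 1) * y

omit [Fintype G] in
lemma asNum_mem {y T : A} (hT : T ∈ 𝔹) (hy : ∀ g : G, g • y = y + cst A hcard g * T) :
    asNum p y T ∈ 𝔹 := fun g => by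
  have h1 : T ^ p = T ^ (p - 1) * T := by
    rw [← pow_succ, Nat.sub_add_cancel hp.out.one_le]
  rw [asNum, smul_sub, smul_pow', smul_mul', smul_pow', hT g, hy g, add_pow_char, mul_pow, cst_pow, h1]
  ring

variable [IsDomain A]

omit [CharP A p] [Algebra k A] [SMulCommClass G k A] in
theorem exists_tr_notMem (hcard : Nat.card G = p) (Q : Ideal A) [Q.IsPrime] (hQ : Q.inertia G = ⊥) :
    ∃ t : A, tr (G := G) t ∉ Q := by
  classical
  by_contra! h
  let χ : G → (A →* A ⧸ Q) := fun g =>
    ((Ideal.Quotient.mk Q).comp (MulSemiringAction.toRingHom G A g)).toMonoidHom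
  have hχ : Function.Injective χ := by
    intro g g' e
    have hmem : g'⁻¹ * g ∈ Q.inertia G ↔ g'⁻¹ * g = 1 := by rw [hQ, Subgroup.mem_bot]
    by_contra hne
    refine hne (inv_mul_eq_one.mp (hmem.mp ?_)).symm
    intro x
    have h1 : Ideal.Quotient.mk Q (g • (g⁻¹ • (g'⁻¹ * g) • x)) =
        Ideal.Quotient.mk Q (g' • (g⁻¹ • (g'⁻¹ * g) • x)) :=
      DFunLike.congr_fun e _
    have h2 : Ideal.Quotient.mk Q (g • (g'⁻¹ • x)) = Ideal.Quotient.mk Q (g' • (g'⁻¹ • x)) :=
      DFunLike.congr_fun e _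
    rw [smul_inv_smul, smul_smul] at h2
    have h3 : g * g'⁻¹ = g'⁻¹ * g :=
      (idx hcard).injective (by rw [map_mul, map_mul, mul_comm])
    rw [h3] at h2
    exact Ideal.Quotient.eq.mp h2
  have hli := (linearIndependent_monoidHom A (A ⧸ Q)).comp χ hχ
  have hzero : ∑ g : G, (1 : A ⧸ Q) • ((fun f : A →* A ⧸ Q => (f : A → A ⧸ Q)) ∘ χ) g = 0 := by
    funext t
    simp only [Finset.sum_apply, Pi.smul_apply, one_smul, Pi.zero_apply, Function.comp_apply]
    rw [← Ideal.Quotient.eq_zero_iff_mem.mpr (h t), tr, map_sum]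
    rfl
  exact one_ne_zero (Fintype.linearIndependent_iff.mp hli (fun _ => 1) hzero 1)

variable [IsLocalRing A]

/-- A generator of the extension, with denominator outside a given prime. -/
theorem exists_local_gen (hcard : Nat.card G = p) (Q : Ideal A) [Q.IsPrime] (hQ : Q.inertia G = ⊥) :
    ∃ y T : A, T ∉ Q ∧ T ∈ 𝔹 ∧ ∀ g : G, g • y = y + cst A hcard g * T := by
  obtain ⟨t, ht⟩ := exists_tr_notMem (G := G) hcard Q hQ
  exact ⟨gen hcard t, tr (G := G) t, ht, tr_mem t, smul_gen hcard t⟩

omit [Fintype G] [IsLocalRing A] [CharP A p] in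
/-- An endomorphism fixing the invariants and moving a generator like a group element is that element. -/
theorem eq_smul_of_gen {y : A} {D : A} (hD : D ≠ 0) (hDB : D ∈ 𝔹)
    (hgen : ∀ x : A, ∃ P : 𝔹[X], D * x = aeval y P) (θ : A →+* A) (hθ : ∀ b : 𝔹, θ b = b) (g : G)
    (hy : θ y = g • y) (x : A) : θ x = g • x := by
  obtain ⟨P, hP⟩ := hgen x
  have h1 : ∀ f : A →+* A, (∀ b : 𝔹, f b = b) → f y = θ y → f (aeval y P) = θ (aeval y P) := by
    intro f hf hfy
    rw [aeval_def, hom_eval₂, hom_eval₂, hfy]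
    congr 1
    exact RingHom.ext fun b => (hf b).trans (hθ b).symm
  have h2 := h1 (MulSemiringAction.toRingHom G A g) (fun b => b.2 g) hy.symm
  have hθD : θ D = D := hθ ⟨D, hDB⟩
  rw [← hP, map_mul, map_mul, hθD] at h2
  change g • D * g • x = D * θ x at h2
  rw [hDB g] at h2
  exact (mul_left_cancel₀ hD h2).symm

/-- Lagrange interpolation: every element is a polynomial in `y` over the invariants, up to a constant. -/
theorem exists_aeval' [DecidableEq G] (hcard : Nat.card G = p) {y T : A} (hT : T ∈ 𝔹) (hT0 : T ≠ 0)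
    (hy : ∀ g : G, g • y = y + cst A hcard g * T) :
    ∃ D : A, D = ∏ h ∈ (Finset.univ : Finset G).erase 1, -(cst A hcard h * T) ∧ D ∈ 𝔹 ∧
      ∀ x : A, ∃ P : 𝔹[X], D * x = aeval y P := by
  let D : A := ∏ h ∈ (Finset.univ : Finset G).erase 1, -(cst A hcard h * T)
  have hc1 : cst A hcard (1 : G) = 0 := by simp [cst]
  refine ⟨D, rfl, ?_, ?_⟩
  · intro g
    rw [Finset.smul_prod']
    refine Finset.prod_congr rfl fun h _ => ?_
    rw [smul_neg, smul_mul', smul_cst, hT g]
  intro x
  let L : A[X] := ∑ g : G, C (g • x) * ∏ h ∈ (Finset.univ : Finset G).erase 1, (X - C ((g * h) • y))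
  have hinv : ∀ a : G, Polynomial.map (MulSemiringAction.toRingHom G A a) L = L := by
    intro a
    simp only [L, Polynomial.map_sum, Polynomial.map_mul, Polynomial.map_prod, Polynomial.map_sub,
      Polynomial.map_X, Polynomial.map_C, MulSemiringAction.toRingHom_apply]
    refine Fintype.sum_equiv (Equiv.mulLeft a) _ _ fun g => ?_
    simp [smul_smul, mul_assoc]
  obtain ⟨P, hP⟩ : ∃ P : 𝔹[X], P.map (algebraMap 𝔹 A) = L := by
    have : L ∈ Polynomial.lifts (algebraMap 𝔹 A) := by
      rw [Polynomial.lifts_iff_coeff_lifts]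
      intro n
      refine ⟨⟨L.coeff n, fun a => ?_⟩, rfl⟩
      conv_rhs => rw [← hinv a]
      rw [Polynomial.coeff_map]; rfl
    exact (Polynomial.mem_lifts _).mp this
  refine ⟨P, ?_⟩
  rw [aeval_def, eval₂_eq_eval_map, hP]
  simp only [L, eval_finsetSum, eval_mul, eval_C, eval_prod, eval_sub, eval_X]
  rw [Finset.sum_eq_single (1 : G)]
  · rw [one_smul, mul_comm]
    congr 1
    refine Finset.prod_congr rfl fun h _ => ?_
    rw [one_mul, hy]; ring
  · intro g _ hg
    refine mul_eq_zero_of_right _ (Finset.prod_eq_zero (i := g⁻¹)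
      (Finset.mem_erase.mpr ⟨by simpa using hg, Finset.mem_univ _⟩) ?_)
    rw [mul_inv_cancel, one_smul, sub_self]
  · exact fun h => absurd (Finset.mem_univ _) h

theorem exists_aeval (hcard : Nat.card G = p) {y T : A} (hT : T ∈ 𝔹) (hT0 : T ≠ 0)
    (hy : ∀ g : G, g • y = y + cst A hcard g * T) :
    ∃ D : A, D ≠ 0 ∧ D ∈ 𝔹 ∧ ∀ x : A, ∃ P : 𝔹[X], D * x = aeval y P := by
  classical
  obtain ⟨D, hD, hDB, hgen⟩ := exists_aeval' hcard hT hT0 hy
  refine ⟨D, hD ▸ Finset.prod_ne_zero_iff.mpr fun h hh => neg_ne_zero.mpr (mul_ne_zero ?_ hT0), hDB, hgen⟩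
  have hc1 : cst A hcard (1 : G) = 0 := by simp [cst]
  rw [← hc1]
  exact fun e => (Finset.mem_erase.mp hh).1 (cst_injective hcard e)

omit [Fintype G] [IsLocalRing A] in
/-- Roots of the minimal polynomial of `y`. -/
theorem eq_smul_of_root (hcard : Nat.card G = p) {y T : A} (hT : T ∈ 𝔹) (hT0 : T ≠ 0)
    (hy : ∀ g : G, g • y = y + cst A hcard g * T) {z : A}
    (hz : z ^ p - T ^ (p - 1) * z = asNum p y T) : ∃ g : G, z = g • y := by
  haveI : Fintype G := Fintype.ofFinite G
  have hinj : Function.Injective fun g : G => g • y := fun g h e => by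
    simp only [hy, add_right_inj] at e
    exact cst_injective hcard (mul_right_cancel₀ hT0 e)
  have hdeg : (C (T ^ (p - 1)) * X + C (asNum p y T)).degree < (p : WithBot ℕ) := by
    refine lt_of_le_of_lt degree_linear_le ?_
    exact_mod_cast hp.out.one_lt
  have hm : (X ^ p - (C (T ^ (p - 1)) * X + C (asNum p y T))).Monic := monic_X_pow_sub hdeg
  refine Root.mem_of_root _ hinj _ hm.ne_zero ?_ (fun g => ?_) (x := z) ?_
  · rw [← Nat.card_eq_fintype_card, hcard]
    refine (natDegree_sub_le _ _).trans (max_le (natDegree_X_pow p).le ?_)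
    exact (natDegree_le_iff_degree_le.mpr hdeg.le)
  · have := asNum_mem hcard hT hy g
    simp only [asNum, smul_sub, smul_pow', smul_mul', hT g] at this
    simp only [eval_sub, eval_add, eval_mul, eval_pow, eval_X, eval_C, asNum]
    linear_combination this
  · simp only [eval_sub, eval_add, eval_mul, eval_pow, eval_X, eval_C]
    linear_combination hz

/-- A polynomial over the invariants killing `y` is a multiple of its minimal polynomial. -/
theorem exists_mul_of_aeval_eq_zero (hcard : Nat.card G = p) {y T : A} (hT : T ∈ 𝔹) (hT0 : T ≠ 0)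
    (hy : ∀ g : G, g • y = y + cst A hcard g * T) (P : 𝔹[X]) (hP : aeval y P = 0) :
    ∃ Q : 𝔹[X], P = (X ^ p - (C ((⟨T, hT⟩ : 𝔹) ^ (p - 1)) * X +
      C (⟨asNum p y T, asNum_mem hcard hT hy⟩ : 𝔹))) * Q := by
  classical
  set f : 𝔹[X] := X ^ p - (C ((⟨T, hT⟩ : 𝔹) ^ (p - 1)) * X +
    C (⟨asNum p y T, asNum_mem hcard hT hy⟩ : 𝔹)) with hf
  have hdeg : (C ((⟨T, hT⟩ : 𝔹) ^ (p - 1)) * X +
      C (⟨asNum p y T, asNum_mem hcard hT hy⟩ : 𝔹)).degree < (p : WithBot ℕ) := by
    refine lt_of_le_of_lt degree_linear_le ?_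
    exact_mod_cast hp.out.one_lt
  have hm : f.Monic := monic_X_pow_sub hdeg
  have hfdeg : f.natDegree = p := by
    rw [hf, natDegree_sub_eq_left_of_natDegree_lt, natDegree_X_pow]
    rw [natDegree_X_pow]
    exact lt_of_le_of_lt natDegree_linear_le hp.out.one_lt
  refine ⟨P /ₘ f, ?_⟩
  suffices h : P %ₘ f = 0 by
    conv_lhs => rw [← modByMonic_add_div P f, h, zero_add]
  let R := (P %ₘ f).map (algebraMap 𝔹 A)
  have hroot : ∀ g : G, R.eval (g • y) = 0 := by
    intro g
    have h1 : ∀ Q : 𝔹[X], aeval (g • y) Q = g • aeval y Q := fun Q => by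
      rw [aeval_def, aeval_def]
      change _ = MulSemiringAction.toRingHom G A g _
      rw [hom_eval₂]
      congr 1
      exact RingHom.ext fun b => (b.2 g).symm
    have h2 : aeval y f = 0 := by
      simp only [hf, map_sub, map_add, map_mul, map_pow, aeval_X, aeval_C]
      change y ^ p - (T ^ (p - 1) * y + (y ^ p - T ^ (p - 1) * y)) = 0
      ring
    have h3 : aeval y (P %ₘ f) = 0 := by
      have := congrArg (aeval y) (modByMonic_add_div P f)
      rw [map_add, map_mul, h2, zero_mul, add_zero, hP] at this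
      exact this
    rw [show R.eval (g • y) = aeval (g • y) (P %ₘ f) from (eval_map _ _), h1, h3, smul_zero]
  have hinj : Function.Injective fun g : G => g • y := fun g h e => by
    simp only [hy, add_right_inj] at e
    exact cst_injective hcard (mul_right_cancel₀ hT0 e)
  have hR : R = 0 := by
    refine eq_zero_of_natDegree_lt_card_of_eval_eq_zero R hinj hroot ?_
    rw [← Nat.card_eq_fintype_card, hcard]
    refine lt_of_le_of_lt natDegree_map_le ?_
    have h5 := natDegree_modByMonic_lt P hm (fun h1 => hp.out.ne_zero (by rw [← hfdeg, h1, natDegree_one]))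
    omega
  exact Polynomial.map_injective _ Subtype.val_injective (hR.trans (Polynomial.map_zero _).symm)

lemma clear_denom {K : Type*} [Field K] {a b c e : K} (ha : a ≠ 0) (hb : b ≠ 0) (hc : c ≠ 0)
    (he : e ≠ 0) (n q d : K) :
    a * b * ((n / (a * b) + -q / (c * e * (a * b)) - -d / (e * b)) * (c * e)) =
      c * e * n - q + c * a * d := by
  field_simp
  ring

omit [Fintype G] [IsLocalRing A] in
theorem eq_zero_of_degree_lt (hcard : Nat.card G = p) {y T : A} (hT : T ∈ 𝔹) (hT0 : T ≠ 0)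
    (hy : ∀ g : G, g • y = y + cst A hcard g * T) (P : 𝔹[X]) (hP : aeval y P = 0)
    (hdeg : P.natDegree < p) : P = 0 := by
  haveI : Fintype G := Fintype.ofFinite G
  have hinj : Function.Injective fun g : G => g • y := fun g h e => by
    simp only [hy, add_right_inj] at e
    exact cst_injective hcard (mul_right_cancel₀ hT0 e)
  refine Polynomial.map_injective (algebraMap 𝔹 A) Subtype.val_injective ?_
  rw [Polynomial.map_zero]
  refine eq_zero_of_natDegree_lt_card_of_eval_eq_zero _ hinj (fun g => ?_)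
    (by rw [← Nat.card_eq_fintype_card, hcard]; exact lt_of_le_of_lt natDegree_map_le hdeg)
  rw [eval_map]
  have h1 : MulSemiringAction.toRingHom G A g (eval₂ (algebraMap 𝔹 A) y P) = 0 := by
    rw [← aeval_def, hP, map_zero]
  rw [hom_eval₂] at h1
  rw [← h1]
  congr 1
  exact RingHom.ext fun b => (b.2 g).symm

omit [Fintype G] [IsLocalRing A] in
/-- Every polynomial in `y` reduces to degree less than `p`. -/
theorem exists_reduce (hcard : Nat.card G = p) {y T : A} (hT : T ∈ 𝔹)
    (hy : ∀ g : G, g • y = y + cst A hcard g * T) (P : 𝔹[X]) :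
    ∃ R : 𝔹[X], R.natDegree < p ∧ aeval y R = aeval y P := by
  let f : 𝔹[X] := X ^ p - (C ((⟨T, hT⟩ : 𝔹) ^ (p - 1)) * X +
    C (⟨asNum p y T, asNum_mem hcard hT hy⟩ : 𝔹))
  have hlin : (C ((⟨T, hT⟩ : 𝔹) ^ (p - 1)) * X +
      C (⟨asNum p y T, asNum_mem hcard hT hy⟩ : 𝔹)).natDegree < p :=
    lt_of_le_of_lt natDegree_linear_le hp.out.one_lt
  have hfdeg : f.natDegree = p := by
    simp only [f]
    rw [natDegree_sub_eq_left_of_natDegree_lt (by rwa [natDegree_X_pow]), natDegree_X_pow]
  have hm : f.Monic := monic_X_pow_sub (lt_of_le_of_lt degree_le_natDegree (by exact_mod_cast hlin))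
  refine ⟨P %ₘ f, ?_, ?_⟩
  · have h5 := natDegree_modByMonic_lt P hm (fun h1 => hp.out.ne_zero (by rw [← hfdeg, h1, natDegree_one]))
    omega
  · have h2 : aeval y f = 0 := by
      simp only [f, map_sub, map_add, map_mul, map_pow, aeval_X, aeval_C]
      change y ^ p - (T ^ (p - 1) * y + (y ^ p - T ^ (p - 1) * y)) = 0
      ring
    conv_rhs => rw [← modByMonic_add_div P f]
    rw [map_add, map_mul, h2, zero_mul, add_zero]

variable [IsRegularLocalRing A] [IsAdicComplete (IsLocalRing.maximalIdeal A) A]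

/-- The Artin–Schreier equation transported by an automorphism of the invariants has a solution. -/
theorem exists_transport (hcard : Nat.card G = p) (hdim : 2 ≤ ringKrullDim A)
    (hk : Function.Surjective (IsLocalRing.residue A ∘ algebraMap k A))
    (hkp : ∀ (L : Type v) [Field L] [Algebra k L], IsGalois k L → Module.finrank k L ≠ p)
    (hram : ∀ P : Ideal A, P.IsPrime → P ≠ IsLocalRing.maximalIdeal A → P.inertia G = ⊥)
    (φ : 𝔹 ≃+* 𝔹) {y T : A} (hT : T ∈ 𝔹) (hT0 : T ≠ 0)
    (hy : ∀ g : G, g • y = y + cst A hcard g * T) :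
    ∃ w : FractionRing A,
      w ^ p - algebraMap A _ (φ ⟨T, hT⟩ : A) ^ (p - 1) * w =
        algebraMap A _ (φ ⟨asNum p y T, asNum_mem hcard hT hy⟩ : A) := by
  let K := FractionRing A
  let ι : A →+* K := algebraMap A K
  have hι : Function.Injective ι := IsFractionRing.injective A K
  haveI : CharP K p := charP_of_injective_algebraMap hι p
  haveI : Algebra.IsIntegral 𝔹 A := Algebra.IsInvariant.isIntegral 𝔹 A G
  let e : 𝔹 →+* K := ι.comp ((𝔹).val.toRingHom.comp φ.toRingHom)
  have he : Function.Injective e := hι.comp (Subtype.val_injective.comp φ.injective)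
  let N0 : 𝔹 := ⟨asNum p y T, asNum_mem hcard hT hy⟩
  let T0 : 𝔹 := ⟨T, hT⟩
  have heT : e T0 ≠ 0 := (map_ne_zero_iff e he).mpr fun h => hT0 (congrArg Subtype.val h)
  have hpow : e T0 ^ p = e T0 ^ (p - 1) * e T0 := by
    rw [← pow_succ, Nat.sub_add_cancel hp.out.one_le]
  obtain ⟨c, b, hb⟩ := Purity.exists_sub_mem p (e N0 / e T0 ^ p) fun π hπ => by
    let Q : Ideal A := Ideal.span {π}
    haveI hQ : Q.IsPrime := (Ideal.span_singleton_prime hπ.ne_zero).mpr hπ
    have hQm : Q ≠ IsLocalRing.maximalIdeal A := by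
      intro h
      have h1 : (IsLocalRing.maximalIdeal A).height ≤ 1 := by
        rw [← h]
        refine Ideal.height_le_one_of_isPrincipal_of_mem_minimalPrimes Q Q ?_
        rw [Ideal.minimalPrimes_eq_subsingleton_self]
        exact rfl
      have h2 := hdim
      rw [← IsLocalRing.maximalIdeal_height_eq_ringKrullDim] at h2
      have h3 : (2 : ℕ∞) ≤ (IsLocalRing.maximalIdeal A).height := WithBot.coe_le_coe.mp h2
      exact absurd (h3.trans h1) (by norm_num)
    haveI : (Q.under 𝔹).IsPrime := inferInstance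
    let P : Ideal 𝔹 := (Q.under 𝔹).comap φ.toRingHom
    obtain ⟨Q2, -, hQ2, hQ2P⟩ := Ideal.exists_ideal_over_prime_of_isIntegral P (⊥ : Ideal A)
      (by simp [Ideal.comap_bot_of_injective (algebraMap 𝔹 A) Subtype.val_injective])
    have hQ2m : Q2 ≠ IsLocalRing.maximalIdeal A := by
      intro h
      haveI : Q2.IsMaximal := h ▸ IsLocalRing.maximalIdeal.isMaximal A
      have hPm : P.IsMaximal := hQ2P ▸ Ideal.isMaximal_comap_of_isIntegral_of_isMaximal Q2
      have hQm' : (Q.under 𝔹).IsMaximal := by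
        rw [← Ideal.map_comap_of_surjective φ.toRingHom φ.surjective (Q.under 𝔹)]
        exact (Ideal.map_eq_top_or_isMaximal_of_surjective φ.toRingHom φ.surjective hPm).resolve_left
          (by rw [Ideal.map_comap_of_surjective φ.toRingHom φ.surjective]; exact Ideal.IsPrime.ne_top inferInstance)
      exact hQm (IsLocalRing.eq_maximalIdeal
        (Ideal.isMaximal_of_isIntegral_of_isMaximal_comap Q hQm'))
    obtain ⟨y1, T1, hT1, hT1B, hy1⟩ := exists_local_gen hcard Q2 (hram Q2 hQ2 hQ2m) (k := k)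
    have hd : y * T1 - y1 * T ∈ 𝔹 := fun g => by
      rw [smul_sub, smul_mul', smul_mul', hy g, hy1 g, hT1B g, hT g]; ring
    let N1 : 𝔹 := ⟨asNum p y1 T1, asNum_mem hcard hT1B hy1⟩
    let T1' : 𝔹 := ⟨T1, hT1B⟩
    let d : 𝔹 := ⟨y * T1 - y1 * T, hd⟩
    have hT1P : T1' ∉ P := fun h => hT1 (show T1' ∈ Q2.comap (algebraMap 𝔹 A) from hQ2P.symm ▸ h)
    have hπT : ¬ π ∣ (φ T1' : A) := fun h => hT1P (Ideal.mem_span_singleton.mpr h)
    have heT1 : e T1' ≠ 0 := fun h => hπT (by
      rw [show (φ T1' : A) = 0 from hι (h.trans (map_zero ι).symm)]; exact dvd_zero π)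
    refine ⟨-(e d) / (e T1' * e T0), (φ N1 : A), (φ T1' : A) ^ p, fun h => hπT (hπ.dvd_of_dvd_pow h), ?_⟩
    have hrel : T1' ^ p * N0 - d ^ p + T1' ^ (p - 1) * T0 ^ (p - 1) * d = T0 ^ p * N1 := by
      apply Subtype.ext
      have h1 : T ^ p = T ^ (p - 1) * T := by rw [← pow_succ, Nat.sub_add_cancel hp.out.one_le]
      have h2 : T1 ^ p = T1 ^ (p - 1) * T1 := by rw [← pow_succ, Nat.sub_add_cancel hp.out.one_le]
      change T1 ^ p * asNum p y T - (y * T1 - y1 * T) ^ p + T1 ^ (p - 1) * T ^ (p - 1) * (y * T1 - y1 * T)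
        = T ^ p * asNum p y1 T1
      rw [sub_pow_char, mul_pow, mul_pow, asNum, asNum, h1, h2]
      ring
    have hpow1 : e T1' ^ p = e T1' ^ (p - 1) * e T1' := by
      rw [← pow_succ, Nat.sub_add_cancel hp.out.one_le]
    have hrel' := congrArg e hrel
    simp only [map_sub, map_add, map_mul, map_pow] at hrel'
    change (e N0 / e T0 ^ p + (-(e d) / (e T1' * e T0)) ^ p - -(e d) / (e T1' * e T0)) *
      ι ((φ T1' : A) ^ p) = e N1
    rw [map_pow, show ι (φ T1' : A) = e T1' from rfl]
    have hneg : (-(e d)) ^ p = -((e d) ^ p) := by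
      rw [← zero_sub, sub_pow_char, zero_pow hp.out.ne_zero, zero_sub]
    rw [div_pow, hneg, mul_pow]
    have h3 : e T0 ^ p ≠ 0 := pow_ne_zero _ heT
    have h4 : e T1' ^ p ≠ 0 := pow_ne_zero _ heT1
    refine mul_left_cancel₀ h3 ?_
    rw [← hrel', hpow, hpow1]
    have h5 : e T0 ^ (p - 1) ≠ 0 := pow_ne_zero _ heT
    have h6 : e T1' ^ (p - 1) ≠ 0 := pow_ne_zero _ heT1
    generalize e T0 ^ (p - 1) = P0 at h5 ⊢
    generalize e T1' ^ (p - 1) = P1 at h6 ⊢
    exact clear_denom h5 heT h6 heT1 _ _ _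
  obtain ⟨z, hz⟩ := Root.exists_root hk hkp b
  refine ⟨e T0 * (ι z - c), ?_⟩
  have hz' : ι z ^ p - ι z = e N0 / e T0 ^ p + c ^ p - c := by
    rw [← map_pow, ← map_sub, hz]; exact hb
  change (e T0 * (ι z - c)) ^ p - e T0 ^ (p - 1) * (e T0 * (ι z - c)) = e N0
  rw [mul_pow, ← mul_assoc, ← hpow, sub_pow_char]
  have h3 : e T0 ^ p ≠ 0 := pow_ne_zero _ heT
  rw [← mul_sub, show ι z ^ p - c ^ p - (ι z - c) = e N0 / e T0 ^ p by linear_combination hz']
  rw [mul_div_cancel₀ _ h3]

omit [Fintype G] in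
/-- An endomorphism of `A` over an automorphism of the invariants. -/
theorem exists_lift (hcard : Nat.card G = p) (hdim : 2 ≤ ringKrullDim A)
    (hk : Function.Surjective (IsLocalRing.residue A ∘ algebraMap k A))
    (hkp : ∀ (L : Type v) [Field L] [Algebra k L], IsGalois k L → Module.finrank k L ≠ p)
    (hram : ∀ P : Ideal A, P.IsPrime → P ≠ IsLocalRing.maximalIdeal A → P.inertia G = ⊥)
    (φ : 𝔹 ≃+* 𝔹) : ∃ ψ : A →+* A, ∀ b : 𝔹, ψ b = (φ b : A) := by
  classical
  haveI : Fintype G := Fintype.ofFinite G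
  haveI := Groth.Agent.Lib.Regular.UFD.isIntegrallyClosed A
  haveI : Algebra.IsIntegral 𝔹 A := Algebra.IsInvariant.isIntegral 𝔹 A G
  have hbot : (⊥ : Ideal A) ≠ IsLocalRing.maximalIdeal A := by
    intro h
    have hf : IsField A := IsLocalRing.isField_iff_maximalIdeal_eq.mpr h.symm
    rw [ringKrullDim_eq_zero_of_isField hf] at hdim
    exact absurd hdim (by decide)
  obtain ⟨y, T, hT0, hT, hy⟩ := exists_local_gen (k := k) hcard (⊥ : Ideal A)
    (hram ⊥ Ideal.isPrime_bot hbot)
  replace hT0 : T ≠ 0 := fun h => hT0 (Ideal.mem_bot.mpr h)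
  obtain ⟨w, hw⟩ := exists_transport hcard hdim hk hkp hram φ hT hT0 hy
  obtain ⟨D, hD0, hDB, hgen⟩ := exists_aeval hcard hT hT0 hy
  let K := FractionRing A
  let e : 𝔹 →+* K := (algebraMap A K).comp ((𝔹).val.toRingHom.comp φ.toRingHom)
  have hwd : ∀ P P' : 𝔹[X], aeval y P = aeval y P' → eval₂ e w P = eval₂ e w P' := by
    intro P P' h
    obtain ⟨Q, hQ⟩ := exists_mul_of_aeval_eq_zero hcard hT hT0 hy (P - P')
      (by rw [map_sub, h, sub_self])
    rw [← sub_eq_zero, ← eval₂_sub, hQ, eval₂_mul]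
    refine mul_eq_zero_of_left ?_ _
    simp only [eval₂_sub, eval₂_add, eval₂_mul, eval₂_X, eval₂_X_pow, eval₂_C, eval₂_pow, map_pow]
    change w ^ p - (algebraMap A K (φ ⟨T, hT⟩ : A) ^ (p - 1) * w +
      algebraMap A K (φ ⟨asNum p y T, _⟩ : A)) = 0
    linear_combination hw
  let D' : 𝔹 := ⟨D, hDB⟩
  have heD : e D' ≠ 0 := (map_ne_zero_iff e ((IsFractionRing.injective A K).comp
    (Subtype.val_injective.comp φ.injective))).mpr fun h => hD0 (congrArg Subtype.val h)
  choose L hL using hgen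
  have key : ∀ x (P : 𝔹[X]), D * x = aeval y P → eval₂ e w P = eval₂ e w (L x) :=
    fun x P h => hwd _ _ (h.symm.trans (hL x))
  let ψ0 : A →+* K :=
    { toFun := fun x => eval₂ e w (L x) / e D'
      map_one' := by
        rw [← key 1 (C D') (by rw [mul_one, aeval_C]; rfl), eval₂_C, div_self heD]
      map_zero' := by rw [← key 0 0 (by rw [mul_zero, map_zero]), eval₂_zero, zero_div]
      map_add' := fun x x' => by
        rw [← key (x + x') (L x + L x') (by rw [map_add, mul_add, hL, hL]), eval₂_add, add_div]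
      map_mul' := fun x x' => by
        have h1 : eval₂ e w (C D' * L (x * x')) = eval₂ e w (L x * L x') :=
          hwd _ _ (by
            rw [map_mul, map_mul, aeval_C, ← hL, ← hL, ← hL]
            change D * (D * (x * x')) = D * x * (D * x')
            ring)
        rw [eval₂_mul, eval₂_mul, eval₂_C] at h1
        rw [div_mul_div_comm, ← h1, mul_div_mul_left _ _ heD] }
  have hb : ∀ b : 𝔹, ψ0 b = e b := fun b => by
    change eval₂ e w (L b) / e D' = e b
    rw [← key b (C (D' * b)) (by rw [aeval_C]; rfl), eval₂_C, map_mul, mul_div_cancel_left₀ _ heD]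
  have hint : ∀ x, ∃ a : A, algebraMap A K a = ψ0 x := fun x => by
    obtain ⟨f, hfm, hfx⟩ := Algebra.IsIntegral.isIntegral (R := 𝔹) x
    refine IsIntegrallyClosed.isIntegral_iff.mp ?_
    refine ⟨f.map ((𝔹).val.toRingHom.comp φ.toRingHom), hfm.map _, ?_⟩
    rw [eval₂_map]
    have h1 := congrArg ψ0 hfx
    rw [hom_eval₂, map_zero] at h1
    rw [← h1]
    congr 1
    exact RingHom.ext fun b => (hb b).symm
  choose ψ hψ using hint
  have hι : Function.Injective (algebraMap A K) := IsFractionRing.injective A K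
  refine ⟨{ toFun := ψ
            map_one' := hι (by rw [hψ, map_one, map_one])
            map_zero' := hι (by rw [hψ, map_zero, map_zero])
            map_add' := fun a b => hι (by rw [hψ, map_add, map_add, hψ, hψ])
            map_mul' := fun a b => hι (by rw [hψ, map_mul, map_mul, hψ, hψ]) }, fun b => hι ?_⟩
  exact (hψ _).trans (hb b)

omit [Fintype G] in
/-- The theorem: automorphisms of the invariants extend. -/
theorem exists_extend (hcard : Nat.card G = p) (hdim : 2 ≤ ringKrullDim A)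
    (hk : Function.Surjective (IsLocalRing.residue A ∘ algebraMap k A))
    (hkp : ∀ (L : Type v) [Field L] [Algebra k L], IsGalois k L → Module.finrank k L ≠ p)
    (hram : ∀ P : Ideal A, P.IsPrime → P ≠ IsLocalRing.maximalIdeal A → P.inertia G = ⊥)
    (φ : 𝔹 ≃ₐ[k] 𝔹) : ∃ ψ : A ≃ₐ[k] A, ∀ b : 𝔹, ψ b = (φ b : A) := by
  classical
  haveI : Fintype G := Fintype.ofFinite G
  obtain ⟨ψ, hψ⟩ := exists_lift hcard hdim hk hkp hram φ.toRingEquiv
  obtain ⟨χ, hχ⟩ := exists_lift hcard hdim hk hkp hram φ.symm.toRingEquiv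
  have hbot : (⊥ : Ideal A) ≠ IsLocalRing.maximalIdeal A := by
    intro h
    have hf : IsField A := IsLocalRing.isField_iff_maximalIdeal_eq.mpr h.symm
    rw [ringKrullDim_eq_zero_of_isField hf] at hdim
    exact absurd hdim (by decide)
  obtain ⟨y, T, hT0, hT, hy⟩ := exists_local_gen (k := k) hcard (⊥ : Ideal A)
    (hram ⊥ Ideal.isPrime_bot hbot)
  replace hT0 : T ≠ 0 := fun h => hT0 (Ideal.mem_bot.mpr h)
  obtain ⟨D, hD0, hDB, hgen⟩ := exists_aeval hcard hT hT0 hy
  have hbij : ∀ θ : A →+* A, (∀ b : 𝔹, θ b = b) → Function.Bijective θ := by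
    intro θ hθ
    have hT' : θ T = T := hθ ⟨T, hT⟩
    have hN : θ (asNum p y T) = asNum p y T := hθ ⟨_, asNum_mem hcard hT hy⟩
    obtain ⟨g, hg⟩ := eq_smul_of_root hcard hT hT0 hy (z := θ y) (by
      conv_rhs => rw [← hN]
      rw [asNum, map_sub, map_pow, map_mul, map_pow, hT'])
    rw [show (θ : A → A) = fun x => g • x from funext (eq_smul_of_gen hD0 hDB hgen θ hθ g hg)]
    exact (MulSemiringAction.toRingEquiv G A g).bijective
  have h1 := hbij (χ.comp ψ) fun b => by
    rw [RingHom.comp_apply, hψ, hχ]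
    exact congrArg Subtype.val (φ.symm_apply_apply b)
  have h2 := hbij (ψ.comp χ) fun b => by
    rw [RingHom.comp_apply, hχ, hψ]
    exact congrArg Subtype.val (φ.apply_symm_apply b)
  refine ⟨AlgEquiv.ofBijective ({ ψ with commutes' := fun c => ?_ } : A →ₐ[k] A)
    ⟨Function.Injective.of_comp (f := χ) h1.1, Function.Surjective.of_comp (g := χ) h2.2⟩,
    fun b => hψ b⟩
  have := hψ (algebraMap k 𝔹 c)
  rw [show φ.toRingEquiv (algebraMap k _ c) = algebraMap k _ c from φ.commutes c] at this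
  exact this

end Groth.Agent.Lib.WildAS.Extend
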