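import Groth.Agent.H20.RegularFlat
import Groth.Agent.Lib.Regular.Quotient
import Groth.Agent.Lib.Regular.UFD
import Groth.Agent.Lib.Depth.CM
import Mathlib.RingTheory.Flat.EquationalCriterion
import Mathlib.RingTheory.Filtration
import Mathlib.RingTheory.UniqueFactorizationDomain.Basic
import Mathlib.RingTheory.UniqueFactorizationDomain.Finite
import Mathlib.RingTheory.Localization.FractionRing
import Mathlib.Algebra.CharP.Lemmas
import Mathlib.Algebra.CharP.Frobenius
import Mathlib.Algebra.CharP.Algebra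

/-!
# Purity for Artin–Schreier classes over a regular local ring

If `a` in the fraction field of a regular local ring `A` of characteristic `p` can be made regular
at every height one prime by subtracting some `c ^ p - c`, then it can be moved into `A` by a single `c`.
-/

set_option autoImplicit false

universe u

open IsLocalRing

namespace Groth.Agent.Lib.WildAS.Purity

section Frob

variable (p : ℕ) [hp : Fact p.Prime] (A : Type u) [CommRing A] [CharP A p]

/-- `A` viewed as an algebra over itself by Frobenius. -/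
def Frob : Type u := A

noncomputable instance : CommRing (Frob A) := inferInstanceAs (CommRing A)

/-- The identity map to `Frob`. -/
def toFrob : A ≃+* Frob A := RingEquiv.refl A

instance [IsNoetherianRing A] : IsNoetherianRing (Frob A) := inferInstanceAs (IsNoetherianRing A)
instance [IsLocalRing A] : IsLocalRing (Frob A) := inferInstanceAs (IsLocalRing A)
instance [IsRegularLocalRing A] : IsRegularLocalRing (Frob A) :=
  inferInstanceAs (IsRegularLocalRing A)

/-- The algebra structure by Frobenius. -/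
@[reducible] noncomputable def frobAlg : Algebra A (Frob A) :=
  ((toFrob A).toRingHom.comp (frobenius A p)).toAlgebra

theorem flat_frob [IsRegularLocalRing A] :
    @Module.Flat A (Frob A) _ _ (frobAlg p A).toModule := by
  classical
  letI := frobAlg p A
  have hmap : ∀ x : A, algebraMap A (Frob A) x = toFrob A (x ^ p) := fun x => rfl
  haveI : IsLocalHom (algebraMap A (Frob A)) := ⟨fun x hx => by
    rw [hmap] at hx
    exact (isUnit_pow_iff hp.out.ne_zero).mp ((MulEquiv.isUnit_map (toFrob A)).mp hx)⟩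
  haveI : LocCoh.IsCohenMacaulayLocalRing (Frob A) := by
    obtain ⟨rs, hrs, hlen⟩ : ∃ rs : List (Frob A),
        Ideal.ofList rs = maximalIdeal (Frob A) ∧
          rs.length = (maximalIdeal (Frob A)).spanFinrank := by
      have hfg : (maximalIdeal (Frob A)).FG := IsNoetherian.noetherian _
      refine ⟨(Submodule.FG.finite_generators hfg).toFinset.toList, ?_, ?_⟩
      · simp only [Ideal.ofList, Finset.mem_toList, Set.Finite.mem_toFinset, Set.ofPred_mem_eq]
        exact Submodule.span_generators _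
      · rw [Finset.length_toList,
          ← Set.ncard_eq_toFinset_card _ (Submodule.FG.finite_generators hfg),
          Submodule.FG.generators_ncard hfg]
    refine Groth.Agent.Lib.Depth.CM.isCohenMacaulayLocalRing_of_isRegular
      (Groth.Agent.Lib.Regular.Quotient.isRegular_of_span_eq_maximalIdeal rs hrs hlen) ?_
    rw [hlen, IsRegularLocalRing.spanFinrank_maximalIdeal]
  have : Ring.KrullDimLE 0 (Frob A ⧸ (maximalIdeal A).map (algebraMap A (Frob A))) :=
    Ring.KrullDimLE.mk₀ fun P hP => by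
      let Q := P.comap (Ideal.Quotient.mk ((maximalIdeal A).map (algebraMap A (Frob A))))
      have hQ : Q = maximalIdeal (Frob A) := by
        refine le_antisymm (IsLocalRing.le_maximalIdeal (hP.comap _).ne_top) fun x hx => ?_
        refine (hP.comap _).mem_of_pow_mem p ?_
        change Ideal.Quotient.mk _ (toFrob A ((toFrob A).symm x) ^ p) ∈ P
        rw [← map_pow, ← hmap, Ideal.Quotient.eq_zero_iff_mem.mpr (Ideal.mem_map_of_mem _ ?_)]
        · exact zero_mem _
        · exact fun hu => hx (hu.map (toFrob A))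
      rw [← Ideal.map_comap_of_surjective _ Ideal.Quotient.mk_surjective P]
      refine (Ideal.map_eq_top_or_isMaximal_of_surjective _ Ideal.Quotient.mk_surjective
        (I := Q) (hQ ▸ IsLocalRing.maximalIdeal.isMaximal _)).resolve_left ?_
      rw [Ideal.map_comap_of_surjective _ Ideal.Quotient.mk_surjective]
      exact hP.ne_top
  refine Groth.Agent.H20.RegularFlat.flat_of_supportDim_eq A (Frob A) (Frob A)
    Groth.Agent.Lib.Depth.CM.isCohenMacaulayModule_self ?_
  rw [Module.supportDim_self_eq_ringKrullDim,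
    Module.supportDim_eq_of_equiv (Submodule.quotEquivOfEq _
      ((maximalIdeal A).map (algebraMap A (Frob A))) (by simp)),
    Module.supportDim_quotient_eq_ringKrullDim]
  refine le_trans (add_le_add (b := (0 : WithBot ℕ∞)) ((Ring.krullDimLE_iff (n := 0)).mp this)
    (ringKrullDim_eq_of_ringEquiv (toFrob A)).le) (zero_add _).le

/-- If `r g ^ p` is in `(s ^ p, w ^ p)` then `r` is in the Frobenius power of `(s, w) : g`. -/
theorem mem_pow_of_frobenius [IsRegularLocalRing A] {r g s w x y : A}
    (h : r * g ^ p = x * s ^ p + y * w ^ p) (J : Ideal A)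
    (hJ : ∀ t α β, t * g = α * s + β * w → t ∈ J) : r ∈ J ^ p := by
  letI := frobAlg p A
  haveI := flat_frob p A
  have h0 : ∑ i, (![g, -s, -w] : Fin 3 → A) i • (![toFrob A r, toFrob A x, toFrob A y] i) = 0 := by
    simp only [Fin.sum_univ_three, Algebra.smul_def]
    change (g ^ p * r + (-s) ^ p * x + (-w) ^ p * y : A) = 0
    rw [← sub_zero (-s), ← sub_zero (-w), sub_pow_char, sub_pow_char]
    simp only [zero_pow hp.out.ne_zero, sub_zero]
    have hn : ∀ t : A, (-t) ^ p = -(t ^ p) := fun t => by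
      rw [← zero_sub, sub_pow_char, zero_pow hp.out.ne_zero, zero_sub]
    rw [hn, hn]
    linear_combination h
  obtain ⟨k, a, z, hz, ha⟩ := Module.Flat.isTrivialRelation_of_sum_smul_eq_zero h0
  have hr : r = ∑ j, a 0 j ^ p * (toFrob A).symm (z j) := by
    have h1 := congrArg (toFrob A).symm (hz 0)
    simp only [Matrix.cons_val_zero, RingEquiv.symm_apply_apply, map_sum, Algebra.smul_def] at h1
    exact h1
  rw [hr]
  refine Ideal.sum_mem _ fun j _ => Ideal.mul_mem_right _ _ (Ideal.pow_mem_pow (hJ _ (a 1 j) (a 2 j) ?_) p)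
  have := ha j
  simp [Fin.sum_univ_three] at this
  linear_combination this

end Frob

section UFD

variable {A : Type u} [CommRing A] [IsDomain A] {K : Type u} [Field K] [Algebra A K]
  [IsFractionRing A K]

/-- `x` has no pole at the prime element `π`. -/
def Reg (π : A) (x : K) : Prop := ∃ b d : A, ¬ π ∣ d ∧ x * algebraMap A K d = algebraMap A K b

variable {π : A}

lemma Reg.algebraMap (hπ : Prime π) (b : A) : Reg π (algebraMap A K b) :=
  ⟨b, 1, fun h => hπ.not_isUnit (isUnit_of_dvd_one h), by rw [map_one, mul_one]⟩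

lemma Reg.add (hπ : Prime π) {x y : K} (hx : Reg π x) (hy : Reg π y) : Reg π (x + y) := by
  obtain ⟨b, d, hd, h⟩ := hx
  obtain ⟨b', d', hd', h'⟩ := hy
  refine ⟨b * d' + b' * d, d * d', fun h1 => (hπ.dvd_or_dvd h1).elim hd hd', ?_⟩
  rw [map_add, map_mul, map_mul, map_mul, ← h, ← h']; ring

lemma Reg.mul (hπ : Prime π) {x y : K} (hx : Reg π x) (hy : Reg π y) : Reg π (x * y) := by
  obtain ⟨b, d, hd, h⟩ := hx
  obtain ⟨b', d', hd', h'⟩ := hy
  refine ⟨b * b', d * d', fun h1 => (hπ.dvd_or_dvd h1).elim hd hd', ?_⟩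
  rw [map_mul, map_mul, ← h, ← h']; ring

lemma Reg.neg {x : K} (hx : Reg π x) : Reg π (-x) := by
  obtain ⟨b, d, hd, h⟩ := hx
  exact ⟨-b, d, hd, by rw [map_neg, ← h, neg_mul]⟩

lemma Reg.sub (hπ : Prime π) {x y : K} (hx : Reg π x) (hy : Reg π y) : Reg π (x - y) :=
  sub_eq_add_neg x y ▸ hx.add hπ hy.neg

lemma Reg.pow (hπ : Prime π) {x : K} (hx : Reg π x) (n : ℕ) : Reg π (x ^ n) := by
  induction n with
  | zero => exact ⟨1, 1, fun h => hπ.not_isUnit (isUnit_of_dvd_one h), by rw [pow_zero, one_mul]⟩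
  | succ n ih => rw [pow_succ]; exact ih.mul hπ hx

variable [UniqueFactorizationMonoid A]

/-- An element without poles lies in the ring. -/
theorem exists_eq_of_forall_reg {x : K} (h : ∀ π : A, Prime π → Reg π x) :
    ∃ b : A, algebraMap A K b = x := by
  obtain ⟨b, d, hrel, rfl⟩ := IsFractionRing.exists_reduced_fraction (A := A) x
  by_cases hd : IsUnit (d : A)
  · refine ⟨b * (hd.unit⁻¹ : Aˣ), ?_⟩
    refine IsLocalization.eq_mk'_iff_mul_eq.mpr ?_
    rw [← map_mul, mul_assoc, hd.val_inv_mul, mul_one]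
  · obtain ⟨π, hπ, hπd⟩ := WfDvdMonoid.exists_irreducible_factor hd (nonZeroDivisors.ne_zero d.2)
    have hπ' := UniqueFactorizationMonoid.irreducible_iff_prime.mp hπ
    obtain ⟨b', d', hd', he⟩ := h π hπ'
    have h1 : b * d' = b' * d := by
      apply IsFractionRing.injective A K
      have h2 := IsLocalization.mk'_spec K b d
      rw [map_mul, map_mul, ← he, ← h2]
      ring
    exact absurd ((hπ'.dvd_or_dvd (h1.symm ▸ dvd_mul_of_dvd_right hπd b')).resolve_right hd')
      fun hπb => hπ.not_isUnit (hrel hπb hπd)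

end UFD

lemma key_identity {K : Type u} [Field K] {a G W S R B Al b M : K} (hW : W ≠ 0) (hS : S ≠ 0)
    (n : ℕ) (hE : Al * S + B * W = R * G) (hA : a * S = b * M) :
    (R * G ^ (n + 1) - W ^ (n + 1) * (B * S ^ n - R * b * M * S ^ n)) / S ^ (n + 1) =
      W ^ (n + 1) * (R * (a + (G / (W * S)) ^ (n + 1) - G / (W * S))) + W ^ n * Al := by
  rw [eq_comm, ← sub_eq_zero]
  have h1 : (G / (W * S)) ^ (n + 1) = G ^ (n + 1) / (W ^ (n + 1) * S ^ (n + 1)) := by
    rw [div_pow, mul_pow]
  rw [h1, show a = b * M / S by rw [eq_div_iff hS, hA]]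
  field_simp
  simp only [pow_succ]
  linear_combination (W ^ n * W * S * S ^ n) * hE

variable {A : Type u} [CommRing A] [IsRegularLocalRing A] (p : ℕ) [hp : Fact p.Prime] [CharP A p]
  {K : Type u} [Field K] [Algebra A K] [IsFractionRing A K]

/-- Purity for Artin–Schreier classes. -/
theorem exists_sub_mem (a : K) (h : ∀ π : A, Prime π → ∃ c : K, Reg π (a + c ^ p - c)) :
    ∃ (c : K) (b : A), algebraMap A K b = a + c ^ p - c := by
  classical
  haveI := Groth.Agent.Lib.Regular.Quotient.isDomain A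
  haveI := Groth.Agent.Lib.Regular.UFD.uniqueFactorizationMonoid A
  haveI : CharP K p := charP_of_injective_ringHom (IsFractionRing.injective A K) p
  obtain ⟨b0, s0, hs0, ha⟩ := IsFractionRing.div_surjective A a
  have hs00 : s0 ≠ 0 := nonZeroDivisors.ne_zero hs0
  have hs0K : algebraMap A K s0 ≠ 0 := (map_ne_zero_iff _ (IsFractionRing.injective A K)).mpr hs00
  by_cases hunit : IsUnit s0
  · refine ⟨0, b0 * (hunit.unit⁻¹ : Aˣ), ?_⟩
    rw [zero_pow hp.out.ne_zero, add_zero, sub_zero, ← ha, eq_div_iff hs0K, ← map_mul, mul_assoc,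
      hunit.val_inv_mul, mul_one]
  -- prime divisors of `s0`
  let rep : Multiset (Associates A) := (UniqueFactorizationMonoid.factors s0).map Associates.mk
  let T0 : Finset A := rep.toFinset.image Quotient.out
  have hT0 : ∀ π ∈ T0, Prime π := by
    intro π hπ
    obtain ⟨P, hP, rfl⟩ := Finset.mem_image.mp hπ
    obtain ⟨q, hq, rfl⟩ := Multiset.mem_map.mp (Multiset.mem_toFinset.mp hP)
    exact (Associated.prime_iff (Associates.mk_eq_mk_iff_associated.mp (Quotient.out_eq _))).mpr
      (UniqueFactorizationMonoid.prime_of_factor q hq)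
  have hcov : ∀ π : A, Prime π → π ∣ s0 → ∃ π' ∈ T0, Associated π π' := by
    intro π hπ hdvd
    obtain ⟨q, hq, hπq⟩ := UniqueFactorizationMonoid.exists_mem_factors_of_dvd hs00 hπ.irreducible hdvd
    refine ⟨Quotient.out (Associates.mk q), Finset.mem_image.mpr ⟨Associates.mk q,
      Multiset.mem_toFinset.mpr (Multiset.mem_map_of_mem _ hq), rfl⟩, ?_⟩
    exact hπq.trans (Associates.mk_eq_mk_iff_associated.mp (Quotient.out_eq _)).symm
  choose cf hcf using h
  let c : A → K := fun π => if hπ : Prime π then cf π hπ else 0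
  obtain ⟨⟨D, hD⟩, hclear⟩ := IsLocalization.exist_integer_multiples (nonZeroDivisors A) T0 c
  have hD0 : D ≠ 0 := nonZeroDivisors.ne_zero hD
  let s := s0 * D
  have hs : s ≠ 0 := mul_ne_zero hs00 hD0
  have hsK : algebraMap A K s ≠ 0 := (map_ne_zero_iff _ (IsFractionRing.injective A K)).mpr hs
  -- prime divisors of `s`
  let T : Finset A := ((UniqueFactorizationMonoid.factors s).map Associates.mk).toFinset.image Quotient.out
  have hT : ∀ π ∈ T, Prime π := by
    intro π hπ
    obtain ⟨P, hP, rfl⟩ := Finset.mem_image.mp hπ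
    obtain ⟨q, hq, rfl⟩ := Multiset.mem_map.mp (Multiset.mem_toFinset.mp hP)
    exact (Associated.prime_iff (Associates.mk_eq_mk_iff_associated.mp (Quotient.out_eq _))).mpr
      (UniqueFactorizationMonoid.prime_of_factor q hq)
  have hcovT : ∀ π : A, Prime π → π ∣ s → ∃ π' ∈ T, Associated π π' := by
    intro π hπ hdvd
    obtain ⟨q, hq, hπq⟩ := UniqueFactorizationMonoid.exists_mem_factors_of_dvd hs hπ.irreducible hdvd
    refine ⟨Quotient.out (Associates.mk q), Finset.mem_image.mpr ⟨Associates.mk q,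
      Multiset.mem_toFinset.mpr (Multiset.mem_map_of_mem _ hq), rfl⟩, ?_⟩
    exact hπq.trans (Associates.mk_eq_mk_iff_associated.mp (Quotient.out_eq _)).symm
  have huniq : ∀ π ∈ T, ∀ π' ∈ T, Associated π π' → π = π' := by
    intro π hπ π' hπ' hass
    obtain ⟨P, -, rfl⟩ := Finset.mem_image.mp hπ
    obtain ⟨P', -, rfl⟩ := Finset.mem_image.mp hπ'
    have := Associates.mk_eq_mk_iff_associated.mpr hass
    rw [show Associates.mk P.out = P from Quotient.out_eq P,
      show Associates.mk P'.out = P' from Quotient.out_eq P'] at this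
    rw [this]
  -- local corrections with denominator `s`
  have hloc : ∀ π ∈ T, ∃ hn : A, Reg π (a + (algebraMap A K hn / algebraMap A K s) ^ p -
      algebraMap A K hn / algebraMap A K s) := by
    intro π hπ
    by_cases hdvd : π ∣ s0
    · obtain ⟨π', hπ', hass⟩ := hcov π (hT π hπ) hdvd
      obtain ⟨n, hn⟩ := hclear π' hπ'
      refine ⟨s0 * n, ?_⟩
      have he : algebraMap A K (s0 * n) / algebraMap A K s = c π' := by
        rw [div_eq_iff hsK, map_mul, show algebraMap A K n = algebraMap A K D * c π' from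
          hn.trans (Algebra.smul_def _ _), map_mul]
        ring
      rw [he]
      obtain ⟨b, d, hd, hbd⟩ := hcf π' (hT0 π' hπ')
      refine ⟨b, d, fun h' => hd (hass.symm.dvd.trans h'), ?_⟩
      simpa [c, dif_pos (hT0 π' hπ')] using hbd
    · refine ⟨0, ?_⟩
      rw [map_zero, zero_div, zero_pow hp.out.ne_zero, add_zero, sub_zero]
      exact ⟨b0, s0, hdvd, by rw [← ha, div_mul_cancel₀ _ hs0K]⟩
  choose hn hhn using hloc
  have hq : ∀ π ∈ T, ∃ q : A, ∃ e : ℕ, ¬ π ∣ q ∧ s = π ^ e * q := fun π hπ => by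
    obtain ⟨e, q, h1, h2⟩ := WfDvdMonoid.max_power_factor hs (hT π hπ).irreducible
    exact ⟨q, e, h1, h2⟩
  choose q e hq1 hq2 using hq
  let w : A := ∑ π ∈ T.attach, q π.1 π.2
  let g : A := ∑ π ∈ T.attach, hn π.1 π.2 * q π.1 π.2
  have hother : ∀ (π : A) (hπ : π ∈ T) (ρ : A) (hρ : ρ ∈ T), ρ ≠ π → π ^ e π hπ ∣ q ρ hρ := by
    intro π hπ ρ hρ hne
    have hnd : ¬ π ∣ ρ := fun hd => hne (huniq π hπ ρ hρ
      ((hT π hπ).irreducible.associated_of_dvd (hT ρ hρ).irreducible hd)).symm
    have h1 : π ^ e π hπ ∣ ρ ^ e ρ hρ * q ρ hρ := by rw [← hq2, hq2 π hπ]; exact Dvd.intro _ rfl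
    exact ((hT π hπ).pow_dvd_of_dvd_mul_left _ (fun hd => hnd ((hT π hπ).dvd_of_dvd_pow hd)) h1)
  have hw : ∀ (π : A) (hπ : π ∈ T), ¬ π ∣ w := by
    intro π hπ hd
    have hdvds : π ∣ s := by
      obtain ⟨P, hP, hPe⟩ := Finset.mem_image.mp hπ
      obtain ⟨x, hx, rfl⟩ := Multiset.mem_map.mp (Multiset.mem_toFinset.mp hP)
      have hass : Associated (Quotient.out (Associates.mk x)) x :=
        Associates.mk_eq_mk_iff_associated.mp (Quotient.out_eq _)
      rw [← hPe]
      exact hass.dvd.trans (UniqueFactorizationMonoid.dvd_of_mem_factors hx)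
    have he : 1 ≤ e π hπ := by
      by_contra h0
      refine hq1 π hπ ?_
      have h2 := hq2 π hπ
      rw [show e π hπ = 0 by omega, pow_zero, one_mul] at h2
      exact h2 ▸ hdvds
    rw [show w = _ from (Finset.add_sum_erase _ _ (Finset.mem_attach T ⟨π, hπ⟩)).symm] at hd
    refine hq1 π hπ ((dvd_add_left (Finset.dvd_sum fun ρ hρ => ?_)).mp hd)
    exact (dvd_pow_self π (by omega)).trans
      (hother π hπ ρ.1 ρ.2 fun h => (Finset.mem_erase.mp hρ).1 (Subtype.ext h))
  obtain ⟨π0, hπ0, hπ0d⟩ := WfDvdMonoid.exists_irreducible_factor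
    (fun hu => hunit (isUnit_of_mul_isUnit_left hu) : ¬ IsUnit s) hs
  obtain ⟨π1, hπ1, -⟩ := hcovT π0 (UniqueFactorizationMonoid.irreducible_iff_prime.mp hπ0) hπ0d
  have hw0 : w ≠ 0 := fun h0 => hw π1 hπ1 (h0 ▸ dvd_zero _)
  have hwK : algebraMap A K w ≠ 0 := (map_ne_zero_iff _ (IsFractionRing.injective A K)).mpr hw0
  let u : K := algebraMap A K g / (algebraMap A K w * algebraMap A K s)
  -- `u` is a correction at every prime divisor of `s`
  have hu : ∀ π ∈ T, Reg π (a + u ^ p - u) := by
    intro π hπ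
    let cπ := algebraMap A K (hn π hπ) / algebraMap A K s
    have hd : Reg π (u - cπ) := by
      obtain ⟨m, hm⟩ : π ^ e π hπ ∣ g - hn π hπ * w := by
        simp only [g, w, Finset.mul_sum, ← Finset.sum_sub_distrib]
        refine Finset.dvd_sum fun ρ _ => ?_
        by_cases h : ρ.1 = π
        · obtain ⟨ρ, hρ⟩ := ρ
          subst h
          rw [sub_self]; exact dvd_zero _
        · rw [← sub_mul]; exact dvd_mul_of_dvd_right (hother π hπ ρ.1 ρ.2 h) _
      refine ⟨m, w * q π hπ, fun hd => ((hT π hπ).dvd_or_dvd hd).elim (hw π hπ) (hq1 π hπ), ?_⟩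
      have h1 := congrArg (algebraMap A K) hm
      have h2 := congrArg (algebraMap A K) (hq2 π hπ)
      simp only [map_sub, map_mul] at h1 h2 ⊢
      have hQ : algebraMap A K (π ^ e π hπ) ≠ 0 :=
        (map_ne_zero_iff _ (IsFractionRing.injective A K)).mpr (pow_ne_zero _ (hT π hπ).ne_zero)
      simp only [u, cπ, div_sub_div _ _ (mul_ne_zero hwK hsK) hsK, div_mul_eq_mul_div,
        div_eq_iff (mul_ne_zero (mul_ne_zero hwK hsK) hsK)]
      linear_combination (algebraMap A K s * algebraMap A K w * algebraMap A K (q π hπ)) * h1 -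
        (algebraMap A K m * algebraMap A K s * algebraMap A K w) * h2
    have heq : a + u ^ p - u = (a + cπ ^ p - cπ) + ((u - cπ) ^ p - (u - cπ)) := by
      rw [sub_pow_char]; ring
    rw [heq]
    exact (hhn π hπ).add (hT π hπ) ((hd.pow (hT π hπ) p).sub (hT π hπ) hd)
  -- the ideal of `r` with `r g ∈ (s, w)`
  let J : Ideal A := Submodule.comap (LinearMap.mulRight A g) (Ideal.span {s, w})
  have hJ : ∀ t, t ∈ J ↔ ∃ α β, α * s + β * w = t * g := fun t => Ideal.mem_span_pair
  have hJs : s ∈ J := (hJ s).mpr ⟨g, 0, by ring⟩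
  have hJle : J ≤ J ^ p := by
    intro r hr
    obtain ⟨α, β, hrg⟩ := (hJ r).mp hr
    obtain ⟨m, hm⟩ : ∃ m, s = s0 * m := ⟨D, rfl⟩
    obtain ⟨p', hp'⟩ : ∃ p', p = p' + 1 := ⟨p - 1, by have := hp.out.one_le; omega⟩
    let t : A := β * s ^ p' - r * b0 * m * s ^ p'
    obtain ⟨x, hx⟩ : ∃ x : A, algebraMap A K x =
        algebraMap A K (r * g ^ p - w ^ p * t) / algebraMap A K (s ^ p) := by
      refine exists_eq_of_forall_reg fun π hπ => ?_
      by_cases hdvd : π ∣ s
      · obtain ⟨π', hπ', hass⟩ := hcovT π hπ hdvd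
        have key : Reg π' (algebraMap A K (r * g ^ p - w ^ p * t) / algebraMap A K (s ^ p)) := by
          have h1 : algebraMap A K (r * g ^ p - w ^ p * t) / algebraMap A K (s ^ p) =
              algebraMap A K (w ^ p) * (algebraMap A K r * (a + u ^ p - u)) +
                algebraMap A K (w ^ p') * algebraMap A K α := by
            have hE := congrArg (algebraMap A K) hrg
            have hM := congrArg (algebraMap A K) hm
            have hA : a * algebraMap A K s0 = algebraMap A K b0 := by
              rw [← ha, div_mul_cancel₀ _ hs0K]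
            simp only [map_add, map_mul] at hE hM
            simp only [u, t, map_sub, map_mul, map_pow, hp']
            exact key_identity hwK hsK p' hE (by rw [hM, ← mul_assoc, hA])
          rw [h1]
          have hπP := hT π' hπ'
          exact ((Reg.algebraMap hπP _).mul hπP ((Reg.algebraMap hπP r).mul hπP (hu π' hπ'))).add
            hπP ((Reg.algebraMap hπP _).mul hπP (Reg.algebraMap hπP α))
        obtain ⟨b, d, hd, h⟩ := key
        exact ⟨b, d, fun h' => hd (hass.symm.dvd.trans h'), h⟩
      · exact ⟨_, s ^ p, fun h' => hdvd (hπ.dvd_of_dvd_pow h'),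
          div_mul_cancel₀ _ ((map_ne_zero_iff _ (IsFractionRing.injective A K)).mpr (pow_ne_zero _ hs))⟩
    refine mem_pow_of_frobenius p A (x := x) (y := t) (g := g) (s := s) (w := w) ?_ J
      fun t' α' β' h' => (hJ t').mpr ⟨α', β', h'.symm⟩
    apply IsFractionRing.injective A K
    have hsp : algebraMap A K (s ^ p) ≠ 0 :=
      (map_ne_zero_iff _ (IsFractionRing.injective A K)).mpr (pow_ne_zero _ hs)
    rw [map_add, map_mul (algebraMap A K) x, hx, div_mul_cancel₀ _ hsp, map_sub]
    simp only [map_mul, map_pow]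
    ring
  have hJtop : J = ⊤ := by
    by_contra hne
    have hpow : ∀ n : ℕ, J ≤ J ^ (n + 1) := by
      intro n
      induction n with
      | zero => rw [zero_add, pow_one]
      | succ n ih =>
        calc J ≤ J ^ 2 := hJle.trans (Ideal.pow_le_pow_right hp.out.two_le)
          _ = J * J := pow_two J
          _ ≤ J * J ^ (n + 1) := mul_le_mul' le_rfl ih
          _ = J ^ (n + 1 + 1) := (pow_succ' J (n + 1)).symm
    have h0 : s ∈ (⨅ n : ℕ, J ^ n : Ideal A) := Submodule.mem_iInf _ |>.mpr fun n =>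
      Ideal.pow_le_pow_right (Nat.le_succ n) (hpow n hJs)
    rw [Ideal.iInf_pow_eq_bot_of_isLocalRing J hne] at h0
    exact hs h0
  obtain ⟨α, β, hαβ⟩ := (hJ 1).mp (hJtop ▸ Submodule.mem_top)
  refine ⟨algebraMap A K β / algebraMap A K s, exists_eq_of_forall_reg fun π hπ => ?_⟩
  by_cases hdvd : π ∣ s
  · obtain ⟨π', hπ', hass⟩ := hcovT π hπ hdvd
    have hπP := hT π' hπ'
    have hd : Reg π' (u - algebraMap A K β / algebraMap A K s) := by
      refine ⟨α, w, hw π' hπ', ?_⟩
      have hE := congrArg (algebraMap A K) hαβ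
      simp only [map_add, map_mul, map_one, one_mul] at hE
      simp only [u, div_sub_div _ _ (mul_ne_zero hwK hsK) hsK, div_mul_eq_mul_div,
        div_eq_iff (mul_ne_zero (mul_ne_zero hwK hsK) hsK)]
      linear_combination (-(algebraMap A K s * algebraMap A K w)) * hE
    have key : Reg π' (a + (algebraMap A K β / algebraMap A K s) ^ p - algebraMap A K β / algebraMap A K s) := by
      have : a + (algebraMap A K β / algebraMap A K s) ^ p - algebraMap A K β / algebraMap A K s =
          (a + u ^ p - u) - ((u - algebraMap A K β / algebraMap A K s) ^ p -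
            (u - algebraMap A K β / algebraMap A K s)) := by
        rw [sub_pow_char]; ring
      rw [this]
      exact (hu π' hπ').sub hπP ((hd.pow hπP p).sub hπP hd)
    obtain ⟨b, d, hd', h⟩ := key
    exact ⟨b, d, fun h' => hd' (hass.symm.dvd.trans h'), h⟩
  · have h1 : Reg π (algebraMap A K β / algebraMap A K s) := ⟨β, s, hdvd, div_mul_cancel₀ _ hsK⟩
    have h2 : Reg π a := ⟨b0, s0, fun h' => hdvd (dvd_mul_of_dvd_left h' D),
      by rw [← ha, div_mul_cancel₀ _ hs0K]⟩
    exact (h2.add hπ (h1.pow hπ p)).sub hπ h1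

end Groth.Agent.Lib.WildAS.Purity
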