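import Groth.Agent.Lib.WildAS.Extend
import Groth.Agent.Lib.WildAdm.Basic
import Groth.Agent.Lib.WildCoprod.Basic
import Groth.Agent.H24.PowerSeries
import Groth.Agent.Lib.Adic.Transfer
import Groth.Agent.Lib.Regular.Serre
import Groth.Agent.Lib.Regular.Descent
import Groth.Agent.Lib.Dim.Integral
import Mathlib.LinearAlgebra.Matrix.Determinant.Basic
import Mathlib.LinearAlgebra.Matrix.ToLinearEquiv
import Mathlib.Algebra.Algebra.ZMod

/-!
# The ring of invariants of a complete regular local ring under a finite group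

Finiteness, completeness and the behaviour outside the closed point for wild actions of order `p`.
-/

set_option autoImplicit false

universe u v w

open IsLocalRing Polynomial

namespace Groth.Agent.Lib.WildAS.Subring

variable {A : Type u} [CommRing A] {G : Type w} [Group G] [MulSemiringAction G A]

local notation "𝔹" => FixedPoints.subring A G

instance invariant : Algebra.IsInvariant 𝔹 A G := ⟨fun b hb => ⟨⟨b, hb⟩, rfl⟩⟩

instance smulComm : SMulCommClass G 𝔹 A := ⟨fun g b x => by
  change g • ((b : A) * x) = (b : A) * g • x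
  rw [smul_mul', show g • (b : A) = b from b.2 g]⟩

lemma isLocalHom [Finite G] : IsLocalHom (algebraMap 𝔹 A) :=
  haveI : Algebra.IsIntegral 𝔹 A := Algebra.IsInvariant.isIntegral 𝔹 A G
  haveI : FaithfulSMul 𝔹 A := (faithfulSMul_iff_algebraMap_injective _ _).mpr Subtype.val_injective
  Algebra.IsIntegral.isLocalHom _ _

lemma isLocalRing [IsLocalRing A] [Finite G] : IsLocalRing 𝔹 :=
  haveI := isLocalHom (A := A) (G := G)
  RingHom.domain_isLocalRing (algebraMap 𝔹 A)

lemma maximalIdeal_eq [IsLocalRing A] [Finite G] :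
    haveI := isLocalRing (A := A) (G := G)
    maximalIdeal 𝔹 = (maximalIdeal A).comap (FixedPoints.subring A G).subtype := by
  haveI := isLocalRing (A := A) (G := G)
  haveI := isLocalHom (A := A) (G := G)
  ext x
  rw [Ideal.mem_comap, mem_maximalIdeal, mem_maximalIdeal, mem_nonunits_iff, mem_nonunits_iff]
  exact not_congr (isUnit_map_iff (algebraMap 𝔹 A) x).symm

/-- Invariants of a normal domain form a normal domain. -/
theorem isIntegrallyClosed [IsDomain A] [IsIntegrallyClosed A] [Finite G] : IsIntegrallyClosed 𝔹 := by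
  rw [isIntegrallyClosed_iff (FractionRing 𝔹)]
  intro x hx
  obtain ⟨a, b, hb, rfl⟩ := IsFractionRing.div_surjective 𝔹 x
  have hinj : Function.Injective (FixedPoints.subring A G).subtype := Subtype.val_injective
  let Φ : FractionRing 𝔹 →+* FractionRing A := IsFractionRing.map hinj
  have hcomm : ∀ t : 𝔹, Φ (algebraMap _ _ t) = algebraMap A (FractionRing A) t.1 := fun t =>
    IsLocalization.map_eq _ t
  obtain ⟨s, hs⟩ := IsIntegrallyClosed.isIntegral_iff.mp
    (hx.map_of_comp_eq (FixedPoints.subring A G).subtype Φ (RingHom.ext fun t => (hcomm t).symm))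
  have hb0 : b.1 ≠ 0 := fun h => nonZeroDivisors.ne_zero hb (Subtype.ext h)
  rw [map_div₀, hcomm, hcomm,
    eq_div_iff ((map_ne_zero_iff _ (IsFractionRing.injective _ _)).mpr hb0), ← map_mul] at hs
  have h3 : s * b.1 = a.1 := IsFractionRing.injective _ _ hs
  have hsB : s ∈ FixedPoints.subring A G := fun g => by
    have h4 := congrArg (g • ·) h3
    simp only [smul_mul', b.2 g, a.2 g] at h4
    exact mul_right_cancel₀ hb0 (h4.trans h3.symm)
  refine ⟨⟨s, hsB⟩, ?_⟩
  rw [eq_div_iff (IsFractionRing.to_map_ne_zero_of_mem_nonZeroDivisors hb), ← map_mul]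
  exact congrArg _ (Subtype.ext h3)

section Normalization

variable [IsLocalRing A] [IsNoetherianRing A] [IsAdicComplete (maximalIdeal A) A] [Finite G]
  {k : Type v} [Field k] [Algebra k A] [SMulCommClass G k A]

/-- The ring of invariants receives a power series ring over which `A` is finite. -/
theorem exists_normalization (hk : Function.Surjective (residue A ∘ algebraMap k A)) :
    ∃ (N : ℕ) (f : MvPowerSeries (Fin N) k →+* 𝔹),
      @Module.Finite (MvPowerSeries (Fin N) k) A _ _ (((algebraMap 𝔹 A).comp f).toAlgebra).toModule := by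
  classical
  haveI : Fintype G := Fintype.ofFinite G
  set m := maximalIdeal A with hm
  obtain ⟨n, u, hu⟩ := Submodule.fg_iff_exists_fin_generating_family.mp (IsNoetherian.noetherian m)
  have hu' : Ideal.span (Set.range u) = m := hu
  have hum : ∀ i, u i ∈ m := fun i => hu' ▸ Ideal.subset_span ⟨i, rfl⟩
  let q := Fintype.card G
  let b : Fin (n * q) → A := fun j =>
    (MulSemiringAction.charpoly G (u (finProdFinEquiv.symm j).1)).coeff (finProdFinEquiv.symm j).2
  have hdeg : ∀ x : A, (MulSemiringAction.charpoly G x).natDegree = q := fun x => by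
    rw [MulSemiringAction.charpoly_eq, natDegree_prod_of_monic _ _ fun g _ => monic_X_sub_C _]
    simp [q]
  have hbm : ∀ i (j : Fin q), (MulSemiringAction.charpoly G (u i)).coeff j ∈ m := by
    intro i j
    rw [hm, ← residue_eq_zero_iff, ← Polynomial.coeff_map, MulSemiringAction.charpoly_eq,
      Polynomial.map_prod]
    have : ∀ g : G, (X - C (g • u i)).map (residue A) = X := fun g => by
      rw [Polynomial.map_sub, Polynomial.map_X, Polynomial.map_C,
        (residue_eq_zero_iff _).mpr (Groth.Agent.Lib.WildAdm.Basic.smul_mem g (hum i)), map_zero,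
        sub_zero]
    simp only [this, Finset.prod_const, Finset.card_univ, coeff_X_pow]
    rw [if_neg (ne_of_lt j.2)]
  obtain ⟨ψ, hψ⟩ := Groth.Agent.H24.PowerSeries.exists_hom (A := k) m b fun j => hbm _ _
  have hfix : ∀ (g : G) (x : MvPowerSeries (Fin (n * q)) k), g • ψ x = ψ x := by
    intro g x
    let gA : A →ₐ[k] A := MulSemiringAction.toAlgHom k A g
    have h : gA.comp ψ = ψ := by
      refine Groth.Agent.H24.PowerSeries.hom_ext m (fun j => ?_) fun j => ?_
      · change g • ψ _ ∈ m
        rw [hψ]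
        exact Groth.Agent.Lib.WildAdm.Basic.smul_mem g (hbm _ _)
      · change g • ψ _ = ψ _
        rw [hψ]
        exact MulSemiringAction.smul_coeff_charpoly _ _ g
    exact AlgHom.congr_fun h x
  let f : MvPowerSeries (Fin (n * q)) k →+* 𝔹 := ψ.toRingHom.codRestrict _ fun x g => hfix g x
  refine ⟨n * q, f, ?_⟩
  letI : Algebra (MvPowerSeries (Fin (n * q)) k) A := ((algebraMap 𝔹 A).comp f).toAlgebra
  haveI : IsScalarTower k (MvPowerSeries (Fin (n * q)) k) A :=
    IsScalarTower.of_algebraMap_eq fun c => (ψ.commutes c).symm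
  set P := MvPowerSeries (Fin (n * q)) k
  haveI := Groth.Agent.H24.PowerSeries.isAdicComplete k (Fin (n * q))
  let J : Ideal A := (maximalIdeal P).map (algebraMap P A)
  have hJm : J ≤ m := by
    refine Ideal.map_le_iff_le_comap.mpr ?_
    rw [Groth.Agent.H24.PowerSeries.maximalIdeal_eq, Ideal.span_le]
    rintro _ ⟨j, rfl⟩
    change ψ _ ∈ m
    rw [hψ]; exact hbm _ _
  have huJ : ∀ i, u i ^ q ∈ J := by
    intro i
    have h := MulSemiringAction.eval_charpoly G (u i)
    rw [eval_eq_sum_range, hdeg, Finset.sum_range_succ] at h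
    have hmon : (MulSemiringAction.charpoly G (u i)).coeff q = 1 := by
      have := MulSemiringAction.monic_charpoly G (u i)
      rwa [Monic, leadingCoeff, hdeg] at this
    rw [hmon, one_mul, add_eq_zero_iff_neg_eq] at h
    rw [← h]
    refine neg_mem (Ideal.sum_mem _ fun j hj => Ideal.mul_mem_right _ _ ?_)
    have h2 := hψ (finProdFinEquiv (i, (⟨j, Finset.mem_range.mp hj⟩ : Fin q)))
    simp only [b, Equiv.symm_apply_apply] at h2
    rw [← h2]
    exact Ideal.mem_map_of_mem _ (Groth.Agent.H24.PowerSeries.X_mem k _)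
  have hrad : m ≤ J.radical := by
    rw [← hu', Ideal.span_le]
    rintro _ ⟨i, rfl⟩
    exact ⟨q, huJ i⟩
  obtain ⟨L, hL⟩ := Ideal.exists_pow_le_of_le_radical_of_fg hrad (IsNoetherian.noetherian m)
  haveI : IsHausdorff (maximalIdeal P) A :=
    IsHausdorff.map_algebraMap_iff.mp (IsHausdorff.of_le_jacobson J A
      (hJm.trans (IsLocalRing.maximalIdeal_le_jacobson _)))
  refine Groth.Agent.Lib.Adic.Complete.finite_of_finite_quotient (I := maximalIdeal P) ?_
  let π : A →ₗ[P] A ⧸ (maximalIdeal P • ⊤ : Submodule P A) := Submodule.mkQ _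
  have hker : ∀ x, x ∈ J → π x = 0 := by
    intro x hx
    change Submodule.Quotient.mk x = 0
    rw [Submodule.Quotient.mk_eq_zero, Ideal.smul_top_eq_map]
    exact hx
  let S : Subalgebra k A := Algebra.adjoin k (Set.range u)
  have hfg : ∃ T : Finset A, ∀ x : A, ∃ s ∈ Submodule.span k (T : Set A), x - s ∈ J := by
    let qk : A →ₐ[k] A ⧸ J := Ideal.Quotient.mkₐ k J
    have hint : ∀ y ∈ qk '' Set.range u, IsIntegral k y := by
      rintro _ ⟨_, ⟨i, rfl⟩, rfl⟩
      refine IsIntegral.of_pow (n := q) Fintype.card_pos ?_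
      rw [← map_pow, show qk (u i ^ q) = 0 from Ideal.Quotient.eq_zero_iff_mem.mpr (huJ i)]
      exact isIntegral_zero
    obtain ⟨T, hT⟩ := fg_adjoin_of_finite ((Set.finite_range u).image qk) hint
    choose r hr using fun y : A ⧸ J => Ideal.Quotient.mk_surjective y
    refine ⟨T.image r, fun x => ?_⟩
    obtain ⟨s, hs, hxs⟩ := Groth.Agent.Lib.WildAdm.Basic.exists_mem_adjoin_sub_mem hk u hu' L x
    have hmem : qk x ∈ Submodule.span k (T : Set (A ⧸ J)) := by
      rw [hT, show qk x = qk s from Ideal.Quotient.eq.mpr (hL hxs), Subalgebra.mem_toSubmodule,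
        ← AlgHom.map_adjoin]
      exact ⟨s, hs, rfl⟩
    have hle : Submodule.span k (T : Set (A ⧸ J)) ≤
        (Submodule.span k ((T.image r : Finset A) : Set A)).map qk.toLinearMap := by
      rw [Submodule.map_span, Finset.coe_image]
      refine Submodule.span_mono fun y hy => ⟨r y, ⟨y, hy, rfl⟩, hr y⟩
    obtain ⟨s', hs', hs'x⟩ := hle hmem
    exact ⟨s', hs', Ideal.Quotient.eq.mp hs'x.symm⟩
  obtain ⟨T, hT⟩ := hfg
  refine ⟨⟨T.image π, eq_top_iff.mpr fun y _ => ?_⟩⟩
  obtain ⟨x, rfl⟩ := Submodule.mkQ_surjective _ y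
  obtain ⟨s, hs, hxs⟩ := hT x
  rw [show (maximalIdeal P • ⊤ : Submodule P A).mkQ x = π s from
    sub_eq_zero.mp ((map_sub π x s).symm.trans (hker _ hxs))]
  have hs2 : s ∈ (Submodule.span P (T : Set A)).restrictScalars k := Submodule.span_le_restrictScalars k P _ hs
  rw [Finset.coe_image, ← Submodule.map_span]
  exact ⟨s, hs2, rfl⟩

theorem finite_and_complete (hk : Function.Surjective (residue A ∘ algebraMap k A)) :
    IsNoetherianRing 𝔹 ∧ Module.Finite 𝔹 A ∧
      IsAdicComplete ((maximalIdeal A).comap (FixedPoints.subring A G).subtype) 𝔹 := by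
  classical
  obtain ⟨N, f, hfin⟩ := exists_normalization (A := A) (G := G) hk
  set P := MvPowerSeries (Fin N) k
  letI : Algebra P 𝔹 := f.toAlgebra
  letI : Algebra P A := ((algebraMap 𝔹 A).comp f).toAlgebra
  haveI : IsScalarTower P 𝔹 A := IsScalarTower.of_algebraMap_eq fun c => rfl
  haveI := Groth.Agent.H24.PowerSeries.isAdicComplete k (Fin N)
  haveI := Groth.Agent.H24.PowerSeries.isRegularLocalRing_fin k N
  haveI : Module.Finite P A := hfin
  haveI : Module.Finite P 𝔹 := Module.Finite.of_injective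
    (IsScalarTower.toAlgHom P 𝔹 A).toLinearMap Subtype.val_injective
  haveI hN : IsNoetherianRing 𝔹 := isNoetherian_of_tower P inferInstance
  refine ⟨hN, Module.Finite.of_restrictScalars_finite P 𝔹 A, ?_⟩
  haveI hc : IsAdicComplete (maximalIdeal P) 𝔹 :=
    Groth.Agent.Lib.Adic.Complete.isAdicComplete_of_finite
  haveI : IsAdicComplete ((maximalIdeal P).map (algebraMap P 𝔹)) 𝔹 :=
    (IsAdicComplete.map_algebraMap_iff (maximalIdeal P) 𝔹).mpr hc
  haveI := isLocalRing (A := A) (G := G)
  rw [← maximalIdeal_eq]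
  haveI : Algebra.IsIntegral P 𝔹 := Algebra.IsIntegral.of_finite P 𝔹
  have hrad : maximalIdeal 𝔹 ≤ ((maximalIdeal P).map (algebraMap P 𝔹)).radical := by
    rw [Ideal.radical_eq_sInf]
    refine le_sInf fun Q ⟨hQ, hQp⟩ => ?_
    have hc' : Q.comap (algebraMap P 𝔹) = maximalIdeal P :=
      ((IsLocalRing.maximalIdeal.isMaximal P).eq_of_le (Ideal.comap_ne_top _ hQp.ne_top)
        (Ideal.map_le_iff_le_comap.mp hQ)).symm
    haveI : (Q.comap (algebraMap P 𝔹)).IsMaximal := hc' ▸ IsLocalRing.maximalIdeal.isMaximal P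
    exact (IsLocalRing.eq_maximalIdeal (Ideal.isMaximal_of_isIntegral_of_isMaximal_comap Q ‹_›)).ge
  obtain ⟨L, hL⟩ := Ideal.exists_pow_le_of_le_radical_of_fg hrad (IsNoetherian.noetherian _)
  exact Groth.Agent.Lib.Adic.Transfer.isAdicComplete_of_le
    ((IsAdicComplete.le_jacobson_bot ((maximalIdeal P).map (algebraMap P 𝔹))).trans
      (IsLocalRing.jacobson_eq_maximalIdeal ⊥ bot_ne_top).le) hL

end Normalization

section Wild

variable {p : ℕ} [hp : Fact p.Prime] [CharP A p] [IsRegularLocalRing A] [Finite G]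
  {k : Type v} [Field k] [Algebra k A] [SMulCommClass G k A]

/-- Coordinates over the invariants after multiplying by an element outside a prime with trivial
inertia. -/
theorem exists_coords (hcard : Nat.card G = p) (Q : Ideal A) [Q.IsPrime] (hQ : Q.inertia G = ⊥) :
    ∃ (D : 𝔹) (y : A), (D : A) ∉ Q ∧ (∀ x : A, ∃ c : Fin p → 𝔹, (D : A) * x = ∑ i, (c i : A) * y ^ (i : ℕ)) ∧
      ∀ c : Fin p → 𝔹, (∑ i, (c i : A) * y ^ (i : ℕ)) = 0 → c = 0 := by
  classical
  haveI := Groth.Agent.Lib.Regular.Quotient.isDomain A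
  haveI : Fintype G := Fintype.ofFinite G
  letI : Algebra (ZMod p) A := ZMod.algebra A p
  haveI : SMulCommClass G (ZMod p) A := ⟨fun g c x => by
    rw [Algebra.smul_def, Algebra.smul_def, smul_mul']
    congr 1
    exact RingHom.congr_fun (Subsingleton.elim
      ((MulSemiringAction.toRingHom G A g).comp (algebraMap (ZMod p) A)) (algebraMap (ZMod p) A)) c⟩
  obtain ⟨y, T, hT, hTB, hy⟩ := Extend.exists_local_gen (k := ZMod p) hcard Q hQ
  have hT0 : T ≠ 0 := fun h => hT (h ▸ Q.zero_mem)
  have hprodQ : ∏ h ∈ (Finset.univ : Finset G).erase 1, -(Extend.cst A hcard h * T) ∉ Q := by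
    intro hmem
    obtain ⟨h, hh, hmem⟩ := Ideal.IsPrime.prod_mem_iff.mp hmem
    rw [neg_mem_iff] at hmem
    refine (Ideal.IsPrime.mem_or_mem ‹_› hmem).elim (fun hc => ?_) hT
    have hne : (Extend.idx hcard h).toAdd ≠ 0 := fun h0 => (Finset.mem_erase.mp hh).1
      ((Extend.idx hcard).injective (by
        rw [map_one]; exact Multiplicative.toAdd.injective (h0.trans toAdd_one.symm)))
    exact Ideal.IsPrime.ne_top ‹_› (Ideal.eq_top_of_isUnit_mem Q hc
      ((isUnit_iff_ne_zero.mpr hne).map (ZMod.castHom (dvd_refl p) A)))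
  obtain ⟨D, hDeq, hDB, hgen⟩ := Extend.exists_aeval' (k := ZMod p) hcard hTB hT0 hy
  refine ⟨⟨D, hDB⟩, y, hDeq ▸ hprodQ, fun x => ?_, fun c hc => ?_⟩
  · obtain ⟨P, hP⟩ := hgen x
    obtain ⟨R, hRdeg, hR⟩ := Extend.exists_reduce (k := ZMod p) hcard hTB hy P
    refine ⟨fun i => ⟨(R.coeff i : FixedPoints.subalgebra (ZMod p) A G).1, (R.coeff i).2⟩, ?_⟩
    change D * x = _
    rw [hP, ← hR, aeval_eq_sum_range' hRdeg, ← Fin.sum_univ_eq_sum_range]
    rfl
  · let P : (FixedPoints.subalgebra (ZMod p) A G)[X] :=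
      ∑ i : Fin p, Polynomial.monomial (i : ℕ) ⟨(c i).1, (c i).2⟩
    have hP : aeval y P = 0 := by
      simp only [P, map_sum, aeval_monomial]
      exact hc
    have h0 := Extend.eq_zero_of_degree_lt (k := ZMod p) hcard hTB hT0 hy P hP
      (lt_of_le_of_lt (natDegree_sum_le_of_forall_le (n := p - 1) _ _ fun i _ =>
        (natDegree_monomial_le _).trans (Nat.le_sub_one_of_lt i.2)) (Nat.sub_lt hp.out.pos one_pos))
    funext i
    have h1 := congrArg (fun q => Polynomial.coeff q (i : ℕ)) h0
    simp only [P, finsetSum_coeff, coeff_monomial, coeff_zero] at h1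
    rw [Finset.sum_eq_single i (fun j _ hj => if_neg fun h => hj (Fin.ext h))
      (fun h => absurd (Finset.mem_univ i) h), if_pos rfl] at h1
    exact Subtype.ext (congrArg Subtype.val h1)

omit [IsRegularLocalRing A] in
lemma ne_maximalIdeal_of_minimalPrimes [IsLocalRing A] [IsNoetherianRing A]
    (hdim : 2 ≤ ringKrullDim A) {δ : A} {P : Ideal A} (hP : P ∈ (Ideal.span {δ}).minimalPrimes) :
    P ≠ maximalIdeal A := by
  intro h
  haveI := hP.1.1
  have h1 : P.height ≤ 1 :=
    Ideal.height_le_one_of_isPrincipal_of_mem_minimalPrimes (Ideal.span {δ}) P hP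
  rw [← IsLocalRing.maximalIdeal_height_eq_ringKrullDim] at hdim
  have h3 : (2 : ℕ∞) ≤ (maximalIdeal A).height := WithBot.coe_le_coe.mp hdim
  exact absurd ((h ▸ h3).trans h1) (by norm_num)

omit [IsRegularLocalRing A] hp [CharP A p] [Algebra k A] [SMulCommClass G k A] in
/-- Distinct group elements give independent characters into the residue field of a prime with
trivial inertia. -/
theorem eq_zero_of_characters [Fintype G] (Q : Ideal A) [Q.IsPrime] (hQ : Q.inertia G = ⊥)
    (v : G → A ⧸ Q) (hv : ∀ x : A, ∑ g, v g * Ideal.Quotient.mk Q (g • x) = 0) : v = 0 := by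
  let χ : G → (A →* A ⧸ Q) := fun g =>
    ((Ideal.Quotient.mk Q).comp (MulSemiringAction.toRingHom G A g)).toMonoidHom
  have hχ : Function.Injective χ := by
    intro g g' e
    have hmem : g * g'⁻¹ ∈ Q.inertia G := fun x => by
      refine Ideal.Quotient.eq.mp ?_
      have h1 : Ideal.Quotient.mk Q (g • g'⁻¹ • x) = Ideal.Quotient.mk Q (g' • g'⁻¹ • x) :=
        DFunLike.congr_fun e _
      rwa [smul_inv_smul, smul_smul] at h1
    rw [hQ, Subgroup.mem_bot] at hmem
    exact mul_inv_eq_one.mp hmem
  have hli := (linearIndependent_monoidHom A (A ⧸ Q)).comp χ hχ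
  have hzero : ∑ g : G, v g • ((fun f : A →* A ⧸ Q => (f : A → A ⧸ Q)) ∘ χ) g = 0 := by
    funext t
    simp only [Finset.sum_apply, Pi.smul_apply, Pi.zero_apply, Function.comp_apply, smul_eq_mul]
    exact hv t
  exact funext fun g => Fintype.linearIndependent_iff.mp hli v hzero g

/-- `A` is not flat over the invariants. -/
theorem not_flat [IsAdicComplete (maximalIdeal A) A] (hdim : 2 ≤ ringKrullDim A)
    (hk : Function.Surjective (residue A ∘ algebraMap k A)) (hcard : Nat.card G = p)
    (hram : ∀ P : Ideal A, P.IsPrime → P ≠ maximalIdeal A → P.inertia G = ⊥) :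
    ¬ Module.Flat 𝔹 A := by
  intro hflat
  classical
  haveI : Fintype G := Fintype.ofFinite G
  haveI := Groth.Agent.Lib.Regular.Quotient.isDomain A
  haveI := isLocalRing (A := A) (G := G)
  obtain ⟨hN, hfin, -⟩ := finite_and_complete (A := A) (G := G) hk
  haveI : Module.Free 𝔹 A := Module.free_of_flat_of_isLocalRing
  let ι := Module.Free.ChooseBasisIndex 𝔹 A
  let e : Module.Basis ι 𝔹 A := Module.Free.chooseBasis 𝔹 A
  have hbot : (⊥ : Ideal A) ≠ maximalIdeal A := by
    intro h
    have hf : IsField A := IsLocalRing.isField_iff_maximalIdeal_eq.mpr h.symm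
    rw [ringKrullDim_eq_zero_of_isField hf] at hdim
    exact absurd hdim (by decide)
  have hι : Fintype.card ι ≤ p := by
    obtain ⟨D, y, hD, hgen, huniq⟩ := exists_coords hcard (⊥ : Ideal A) (hram ⊥ Ideal.isPrime_bot hbot)
    choose c hc using hgen
    let T : A →ₗ[𝔹] (Fin p → 𝔹) :=
      { toFun := c
        map_add' := fun a b => sub_eq_zero.mp (huniq _ (by
          simp only [Pi.sub_apply, Pi.add_apply, AddSubgroupClass.coe_sub, Subring.coe_add, sub_mul, add_mul,
            Finset.sum_sub_distrib, Finset.sum_add_distrib, ← hc]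
          ring))
        map_smul' := fun b a => sub_eq_zero.mp (huniq _ (by
          simp only [Pi.sub_apply, Pi.smul_apply, RingHom.id_apply, AddSubgroupClass.coe_sub, smul_eq_mul,
            Subring.coe_mul, sub_mul, mul_assoc, Finset.sum_sub_distrib, ← Finset.mul_sum, ← hc,
            Subring.smul_def]
          ring)) }
    have hT : Function.Injective T := by
      rw [injective_iff_map_eq_zero]
      intro a ha
      have h1 := hc a
      rw [show c a = 0 from ha] at h1
      simp only [Pi.zero_apply, ZeroMemClass.coe_zero, zero_mul, Finset.sum_const_zero] at h1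
      exact (mul_eq_zero.mp h1).resolve_left fun h => hD (h ▸ Ideal.zero_mem _)
    have := LinearMap.finrank_le_finrank_of_injective hT
    rwa [Module.finrank_eq_card_chooseBasisIndex, Module.finrank_fin_fun] at this
  -- a kernel of the conjugate matrix gives a relation between characters
  have hchar : ∀ (Q : Ideal A) [Q.IsPrime], Q ≠ maximalIdeal A → ∀ v : G → A ⧸ Q,
      (∀ i, ∑ g, v g * Ideal.Quotient.mk Q (g • e i) = 0) → v = 0 := by
    intro Q hQp hQ v hv
    refine eq_zero_of_characters Q (hram Q hQp hQ) v fun x => ?_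
    calc ∑ g, v g * Ideal.Quotient.mk Q (g • x)
        = ∑ g, v g * Ideal.Quotient.mk Q (g • ∑ i, e.repr x i • e i) := by rw [e.sum_repr]
      _ = ∑ i, Ideal.Quotient.mk Q (e.repr x i : A) * ∑ g, v g * Ideal.Quotient.mk Q (g • e i) := by
          simp only [Finset.smul_sum, map_sum, Finset.mul_sum]
          rw [Finset.sum_comm]
          refine Finset.sum_congr rfl fun i _ => Finset.sum_congr rfl fun g _ => ?_
          rw [smul_comm g (e.repr x i) (e i), Subring.smul_def, smul_eq_mul, map_mul]
          ring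
      _ = 0 := by simp [hv]
  have hle : Fintype.card G ≤ Fintype.card ι := by
    haveI : IsDomain (A ⧸ (⊥ : Ideal A)) := Ideal.Quotient.isDomain _
    let K := FractionRing (A ⧸ (⊥ : Ideal A))
    let row : G → (ι → A ⧸ (⊥ : Ideal A)) := fun g i => Ideal.Quotient.mk _ (g • e i)
    have hli : LinearIndependent (A ⧸ (⊥ : Ideal A)) row := Fintype.linearIndependent_iff.mpr fun v hv g =>
      congrFun (hchar ⊥ hbot v fun i => by simpa [row] using congrFun hv i) g
    have := hli.fintype_card_le_finrank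
    rwa [Module.finrank_pi] at this
  have hcG : Fintype.card G = p := by rw [← Nat.card_eq_fintype_card, hcard]
  obtain ⟨σ⟩ : Nonempty (G ≃ ι) := ⟨Fintype.equivOfCardEq (by omega)⟩
  let M : Matrix G G A := fun g h => g • e (σ h)
  have hδm : M.det ∈ maximalIdeal A := by
    rw [← residue_eq_zero_iff, RingHom.map_det]
    haveI : Nontrivial G := Fintype.one_lt_card_iff_nontrivial.mp (hcG ▸ hp.out.one_lt)
    obtain ⟨g, g', hgg'⟩ := exists_pair_ne G
    refine Matrix.det_zero_of_row_eq hgg' (funext fun h => ?_)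
    have key : ∀ (a : G) (x : A), residue A (a • x) = residue A x := fun a x => by
      obtain ⟨c, hc⟩ := hk (residue A x)
      have hm : x - algebraMap k A c ∈ maximalIdeal A := by
        rw [← residue_eq_zero_iff, map_sub]; exact sub_eq_zero.mpr hc.symm
      have h2 := (residue_eq_zero_iff _).mpr (Groth.Agent.Lib.WildAdm.Basic.smul_mem a hm)
      rw [smul_sub, smul_algebraMap, map_sub, sub_eq_zero] at h2
      exact h2.trans hc
    exact (key g _).trans (key g' _).symm
  obtain ⟨⟨P, hP⟩⟩ : Nonempty (Ideal.span {M.det}).minimalPrimes := Ideal.nonempty_minimalPrimes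
    (ne_top_of_le_ne_top (IsLocalRing.maximalIdeal.isMaximal A).ne_top
      ((Ideal.span_singleton_le_iff_mem _).mpr hδm))
  haveI := hP.1.1
  have hPne := ne_maximalIdeal_of_minimalPrimes hdim hP
  have hdet : (M.map (Ideal.Quotient.mk P)).det = 0 := by
    rw [← RingHom.mapMatrix_apply, ← RingHom.map_det, Ideal.Quotient.eq_zero_iff_mem]
    exact hP.1.2 (Ideal.mem_span_singleton_self _)
  obtain ⟨v, hv0, hv⟩ := Matrix.exists_vecMul_eq_zero_iff.mpr hdet
  refine hv0 (hchar P hPne v fun i => ?_)
  have h1 := congrFun hv (σ.symm i)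
  simpa [Matrix.vecMul, dotProduct, Matrix.map, M] using h1

end Wild

end Groth.Agent.Lib.WildAS.Subring
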